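import Groth.Prelude.Def_RedSub
import Groth.Agent.Sga3C.CWGroup
import Groth.Agent.Sga3C.GrpIrr

/-!
# Homomorphisms from a smooth group with connected fibres which factor through a subgroup near the unit section

* `exists_lift_of_flat_germ` / `exists_lift_of_germ` : `f : X ⟶ G` a homomorphism, `X` smooth with connected fibres,
  `i : H ⟶ G` a monomorphism of groups, `q : W ⟶ X` flat (smooth) and locally of finite presentation, meeting every fibre, with
  `q ≫ f` factoring through `i`. Then `f` factors through `i`.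
* `iso_of_germ` : the symmetric form.
* `exists_lift_of_smooth_at` : `q` only smooth at the points of a section.
-/

set_option autoImplicit false
universe u
open CategoryTheory Limits MonoidalCategory CartesianMonoidalCategory MonObj GrpObj AlgebraicGeometry

namespace Groth.Agent.RedSub.H641.Germ

variable {S : Scheme.{u}}

/-- Geometric irreducibility from connected fibres, for groups locally of finite type. -/
theorem geomIrr_of_conn {H : Over S} [GrpObj H] [LocallyOfFiniteType H.hom]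
    (h : _root_.RedSub.HasConnectedFibres H) : GeometricallyIrreducible H.hom := by
  have : GrpObj (Over.mk H.hom) := inferInstanceAs (GrpObj H)
  exact Groth.Agent.Sga3C.GrpIrr.geometricallyIrreducible_of_connected_fibres H.hom h

theorem exists_lift_of_flat_germ {X G H : Over S} [GrpObj X] [GrpObj G] [GrpObj H]
    (f : X ⟶ G) [IsMonHom f] (i : H ⟶ G) [IsMonHom i] [Mono i] [Smooth X.hom]
    (hX : _root_.RedSub.HasConnectedFibres X) (W : Over S) (q : W ⟶ X) [Flat q.left] [LocallyOfFinitePresentation q.left]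
    (hW : ∀ s : S, ∃ z : W.left, W.hom z = s) (r : W ⟶ H) (hr : q ≫ f = r ≫ i) :
    ∃ v : X ⟶ H, v ≫ i = f := by
  have := geomIrr_of_conn hX
  let w : W ⟶ 𝟙_ (Over S) ⊗ X := lift (toUnit W) q
  have hw : w = q ≫ (λ_ X).inv := by
    ext1
    · exact toUnit_unique _ _
    · rw [lift_snd, Category.assoc, leftUnitor_inv_snd, Category.comp_id]
  have hiso : IsIso (λ_ X).inv.left := inferInstanceAs (IsIso ((Over.forget S).map (λ_ X).inv))
  have hwl : w.left = q.left ≫ (λ_ X).inv.left := by rw [hw]; rfl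
  have h1 : Flat w.left := by rw [hwl]; infer_instance
  have h2 : LocallyOfFinitePresentation w.left := by rw [hwl]; infer_instance
  obtain ⟨b, hb⟩ := Groth.Agent.Sga3C.CWGroup.exists_lift_of_flat i (snd (𝟙_ (Over S)) X ≫ f) (by
      intro U t a b
      rw [lift_snd_assoc, lift_snd_assoc, lift_snd_assoc, MonObj.mul_comp]) w (by
      intro t
      obtain ⟨z, hz⟩ := hW t
      refine ⟨z, ?_⟩
      have e1 : w ≫ fst (𝟙_ (Over S)) X = toUnit W := lift_fst _ _
      rw [e1]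
      exact hz) r (by
      rw [← hr, lift_snd_assoc])
  refine ⟨(λ_ X).inv ≫ b, ?_⟩
  rw [Category.assoc, hb, leftUnitor_inv_snd_assoc]

/-- Helper: a section meets every fibre. -/
theorem section_fibre {W : Over S} (e : 𝟙_ (Over S) ⟶ W) (s : S) : W.hom (e.left s) = s := by
  have h := Over.w e
  have h2 : e.left ≫ W.hom = 𝟙 S := h
  rw [← Scheme.Hom.comp_apply, h2]
  rfl

theorem exists_lift_of_germ {X G H : Over S} [GrpObj X] [GrpObj G] [GrpObj H]
    (f : X ⟶ G) [IsMonHom f] (i : H ⟶ G) [IsMonHom i] [IsImmersion i.left] [Smooth X.hom]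
    (hX : _root_.RedSub.HasConnectedFibres X) (W : Over S) (q : W ⟶ X) [Smooth q.left] (e : 𝟙_ (Over S) ⟶ W)
    (_he : e ≫ q = η[X]) (r : W ⟶ H) (hr : q ≫ f = r ≫ i) : ∃ v : X ⟶ H, v ≫ i = f := by
  have : Mono i := Over.mono_of_mono_left i
  exact exists_lift_of_flat_germ f i hX W q (fun s => ⟨e.left s, section_fibre e s⟩) r hr

theorem iso_of_germ {G H₁ H₂ : Over S} [GrpObj G] [GrpObj H₁] [GrpObj H₂] (i₁ : H₁ ⟶ G) (i₂ : H₂ ⟶ G) [IsMonHom i₁]
    [IsMonHom i₂] [IsImmersion i₁.left] [IsImmersion i₂.left] [Smooth H₁.hom] [Smooth H₂.hom]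
    (h₁ : _root_.RedSub.HasConnectedFibres H₁) (h₂ : _root_.RedSub.HasConnectedFibres H₂) (W₁ W₂ : Over S) (q₁ : W₁ ⟶ H₁)
    (q₂ : W₂ ⟶ H₂) [Smooth q₁.left] [Smooth q₂.left] (e₁ : 𝟙_ (Over S) ⟶ W₁) (he₁ : e₁ ≫ q₁ = η[H₁])
    (e₂ : 𝟙_ (Over S) ⟶ W₂) (he₂ : e₂ ≫ q₂ = η[H₂]) (r₁ : W₁ ⟶ H₂) (hr₁ : r₁ ≫ i₂ = q₁ ≫ i₁) (r₂ : W₂ ⟶ H₁)
    (hr₂ : r₂ ≫ i₁ = q₂ ≫ i₂) : ∃ e : H₁ ≅ H₂, e.hom ≫ i₂ = i₁ := by
  have : Mono i₁ := Over.mono_of_mono_left i₁
  have : Mono i₂ := Over.mono_of_mono_left i₂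
  obtain ⟨a, ha⟩ := exists_lift_of_germ i₁ i₂ h₁ W₁ q₁ e₁ he₁ r₁ hr₁.symm
  obtain ⟨b, hb⟩ := exists_lift_of_germ i₂ i₁ h₂ W₂ q₂ e₂ he₂ r₂ hr₂.symm
  refine ⟨⟨a, b, ?_, ?_⟩, ha⟩
  · rw [← cancel_mono i₁, Category.assoc, hb, ha, Category.id_comp]
  · rw [← cancel_mono i₂, Category.assoc, ha, hb, Category.id_comp]

/-- Over a local base, an open subset containing the image of the closed point under a section contains the section. -/
theorem mem_of_closedPoint {B : Type u} [CommRing B] [IsLocalRing B] {W : Over (Spec (CommRingCat.of B))}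
    (e : 𝟙_ (Over (Spec (CommRingCat.of B))) ⟶ W) (U : W.left.Opens) (h : e.left (IsLocalRing.closedPoint B) ∈ U)
    (s : Spec (CommRingCat.of B)) : e.left s ∈ U := by
  have h1 : IsLocalRing.closedPoint B ∈ (e.left ⁻¹ᵁ U) := h
  have h2 : (e.left ⁻¹ᵁ U) = ⊤ := (IsLocalRing.closed_point_mem_iff (U := e.left ⁻¹ᵁ U)).mp h1
  have h3 : s ∈ e.left ⁻¹ᵁ U := by rw [h2]; trivial
  exact h3

/-- Variant: `q` is only smooth at the points of the section `e`. -/
theorem exists_lift_of_smooth_at {X G H : Over S} [GrpObj X] [GrpObj G] [GrpObj H]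
    (f : X ⟶ G) [IsMonHom f] (i : H ⟶ G) [IsMonHom i] [Mono i] [Smooth X.hom]
    (hX : _root_.RedSub.HasConnectedFibres X) (W : Over S) (q : W ⟶ X) [LocallyOfFinitePresentation q.left] (e : 𝟙_ (Over S) ⟶ W)
    (hq : ∀ s : S, e.left s ∈ q.left.smoothLocus) (r : W ⟶ H) (hr : q ≫ f = r ≫ i) :
    ∃ v : X ⟶ H, v ≫ i = f := by
  let U : W.left.Opens := q.left.smoothLocus
  let W' : Over S := Over.mk (U.ι ≫ W.hom)
  let j : W' ⟶ W := Over.homMk U.ι
  have hsm : Smooth (j ≫ q).left := by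
    change Smooth (U.ι ≫ q.left)
    rw [← Scheme.Hom.smoothLocus_eq_top_iff, ← Scheme.Hom.preimage_smoothLocus_eq]
    exact (Scheme.Opens.ι_preimage_self U)
  exact exists_lift_of_flat_germ f i hX W' (j ≫ q) (fun s => ⟨⟨e.left s, hq s⟩, section_fibre e s⟩) (j ≫ r)
    (by rw [Category.assoc, Category.assoc, hr])

/-- Variant over a local base: `q` is only smooth at the value of the section at the closed point. -/
theorem exists_lift_of_smooth_at_closedPoint {B : Type u} [CommRing B] [IsLocalRing B]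
    {X G H : Over (Spec (CommRingCat.of B))} [GrpObj X] [GrpObj G] [GrpObj H]
    (f : X ⟶ G) [IsMonHom f] (i : H ⟶ G) [IsMonHom i] [Mono i] [Smooth X.hom]
    (hX : _root_.RedSub.HasConnectedFibres X) (W : Over (Spec (CommRingCat.of B))) (q : W ⟶ X)
    [LocallyOfFinitePresentation q.left] (e : 𝟙_ (Over (Spec (CommRingCat.of B))) ⟶ W)
    (hq : e.left (IsLocalRing.closedPoint B) ∈ q.left.smoothLocus) (r : W ⟶ H) (hr : q ≫ f = r ≫ i) :
    ∃ v : X ⟶ H, v ≫ i = f :=
  exists_lift_of_smooth_at f i hX W q e (mem_of_closedPoint e _ hq) r hr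

end Groth.Agent.RedSub.H641.Germ
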