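import Groth.Prelude.Def_RedSub
import Groth.Agent.Sga3B.MT.MemOps

/-!
# `RedSub.ConjEq` through point predicates
-/

set_option autoImplicit false
universe u
open CategoryTheory Limits MonoidalCategory CartesianMonoidalCategory MonObj GrpObj AlgebraicGeometry

namespace Groth.Agent.RedSub.H641.ConjMem

open Groth.Agent.Sga3B Groth.Agent.Sga3B.BcPts Groth.Agent.Sga3B.MT

variable {S S' : Scheme.{u}} {f : S' ⟶ S} {G H H' : Over S} [GrpObj G]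

omit [GrpObj G] in
lemma memAt_map_iff (i : H ⟶ G) {X : Over S} (a : X ⟶ Over.mk f) (g : X ⟶ G) :
    MemAt ((Over.pullback f).map i) a g ↔ ∃ x : X ⟶ H, x ≫ i = g := by
  rw [memAt_iff, bcPt]
  constructor
  · rintro ⟨x, hx⟩
    refine ⟨(overIso a).inv ≫ (bcEquiv f _ H).symm x, ?_⟩
    rw [Category.assoc, ← bcEquiv_symm_comp, hx, Equiv.symm_apply_apply, Iso.inv_hom_id_assoc]
  · rintro ⟨x, rfl⟩
    refine ⟨bcEquiv f _ H ((overIso a).hom ≫ x), ?_⟩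
    rw [← bcEquiv_comp, Category.assoc]

lemma memAt_conj_iff (i : H ⟶ G) (γ : Over.mk f ⟶ G) {X : Over S} (a : X ⟶ Over.mk f) (g : X ⟶ G) :
    MemAt ((Over.pullback f).map i ≫ cj γ⁻¹) a g ↔ ∃ x : X ⟶ H, x ≫ i = (a ≫ γ) * g * (a ≫ γ)⁻¹ := by
  rw [memAt_comp_cj, memAt_map_iff]
  have e : (a ≫ γ⁻¹)⁻¹ * g * (a ≫ γ⁻¹) = (a ≫ γ) * g * (a ≫ γ)⁻¹ := by
    rw [GrpObj.comp_inv, _root_.inv_inv]
  rw [e]

/-- `RedSub.ConjEq` as an equality of point predicates. -/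
lemma conjEq_iff_mem (i : H ⟶ G) (i' : H' ⟶ G) {X : Over S} (g : X ⟶ G) :
    _root_.RedSub.ConjEq i i' g ↔ ∀ (X' : Over S) (x : X' ⟶ X) (γ : X' ⟶ G),
      (∃ p : X' ⟶ H, p ≫ i = γ) ↔ ∃ p : X' ⟶ H', p ≫ i' = (x ≫ g) * γ * (x ≫ g)⁻¹ := by
  constructor
  · intro h X' x γ
    obtain ⟨h1, h2⟩ := h X' x
    constructor
    · rintro ⟨p, rfl⟩
      obtain ⟨t', ht'⟩ := h1 p
      exact ⟨t', ht'.symm⟩
    · rintro ⟨p, hp⟩
      obtain ⟨t, ht⟩ := h2 p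
      refine ⟨t, ?_⟩
      rw [← ht, hp]
      group
  · intro h X' x
    constructor
    · intro t
      obtain ⟨p, hp⟩ := (h X' x (t ≫ i)).1 ⟨t, rfl⟩
      exact ⟨p, hp.symm⟩
    · intro p
      obtain ⟨t, ht⟩ := (h X' x ((x ≫ g)⁻¹ * (p ≫ i') * (x ≫ g))).2 ⟨p, by group⟩
      exact ⟨t, ht.symm⟩

end Groth.Agent.RedSub.H641.ConjMem
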