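import Groth.Agent.RedSub.H641.TypeRBc
import Groth.Agent.RedSub.H641.ConjMem
import Groth.Agent.Sga3B.SplitBc264b
import Groth.Agent.Sga3B.LocalLift
import Groth.Agent.Sga3B.TorSmooth893
import Groth.Agent.Sga3B.TorusIrr

/-!
# Smoothness of the strict transporter of two subgroups of type (R): assembly

Two inputs are taken as hypotheses:
* `UniqStmt`: uniqueness of subgroups of type (R) containing a given split maximal torus, over a local ring,
  modulo a square-zero ideal;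
* smoothness of the transporter of the torus into the second subgroup.
-/

set_option autoImplicit false
universe u
open CategoryTheory Limits MonoidalCategory CartesianMonoidalCategory MonObj GrpObj AlgebraicGeometry

namespace Groth.Agent.RedSub.H641.Assemble

open Groth.Agent.Sga3B Groth.Agent.Sga3B.MT Groth.Agent.RedSub.H641.ConjMem Groth.Agent.RedSub.H641.TypeRBc
open Groth.Agent.Sga3B.InfConjFam

/-- Over a local ring with a square-zero ideal: two subgroups of type (R) containing the split maximal torus `D.T` which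
coincide modulo the ideal coincide. -/
def UniqStmt : Prop := ∀ (B : Type u) [CommRing B] [IsLocalRing B] (I : Ideal B), I * I = ⊥ →
  ∀ (G H₁ H₂ : Over (Spec (CommRingCat.of B))) [GrpObj G] [GrpObj H₁] [GrpObj H₂] (D : Red.SplitRed G)
    (i₁ : H₁ ⟶ G) (i₂ : H₂ ⟶ G), _root_.RedSub.IsTypeR i₁ → _root_.RedSub.IsTypeR i₂ →
    ∀ (t₁ : D.T ⟶ H₁) (t₂ : D.T ⟶ H₂), t₁ ≫ i₁ = D.i → t₂ ≫ i₂ = D.i →
    (∀ (X : Over (Spec (CommRingCat.of B))), (∃ z : X.left ⟶ Spec (CommRingCat.of (B ⧸ I)),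
        z ≫ Spec.map (CommRingCat.ofHom (Ideal.Quotient.mk I)) = X.hom) →
      ∀ y : X ⟶ G, (∃ a, a ≫ i₁ = y) ↔ ∃ a, a ≫ i₂ = y) →
    ∀ (X : Over (Spec (CommRingCat.of B))) (y : X ⟶ G), (∃ a, a ≫ i₁ = y) ↔ ∃ a, a ≫ i₂ = y

variable {S : Scheme.{u}} {G H H' : Over S} [GrpObj G] [GrpObj H] [GrpObj H']

theorem conjEq_of_uniq (hU : UniqStmt.{u}) {B : Type u} [CommRing B] [IsLocalRing B] (I : Ideal B) (hI : I * I = ⊥)
    (x : Spec (CommRingCat.of B) ⟶ S) (i : H ⟶ G) (i' : H' ⟶ G)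
    (hH : IsR0 i) (hH' : IsR0 i') (D : Red.SplitRed G) (t : D.T ⟶ H) (ht : t ≫ i = D.i)
    (g : Over.mk x ⟶ G) (h0 : _root_.RedSub.ConjEq i i' (redMap x I ≫ g))
    (hT : ∀ (X' : Over S) (s : X' ⟶ Over.mk x) (h : X' ⟶ D.T), ∃ h' : X' ⟶ H',
      (s ≫ g) * (h ≫ D.i) * (s ≫ g)⁻¹ = h' ≫ i') : _root_.RedSub.ConjEq i i' g := by
  have hG := D.reductive
  have hDT : Red.IsMaximalTorus (t ≫ i) := by rw [ht]; exact D.maximalTorus
  have hi : IsMonHom i := hH.1.1
  have hi' : IsMonHom i' := hH'.1.1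
  have himm' : IsImmersion i'.left := hH'.1.2
  have hmono' : Mono i' := Over.mono_of_mono_left i'
  have hGB := RedBc892U.isReductive_bc x hG
  have hDB := MaxTorBc636.isMaximalTorus_bc x hG D.maximalTorus
  -- the torus inside the conjugate of the second subgroup
  obtain ⟨t₂, ht₂⟩ : ∃ t₂ : Red.bc x D.T ⟶ Red.bc x H',
      t₂ ≫ (Over.pullback x).map i' ≫ cj g⁻¹ = (Over.pullback x).map D.i := by
    have h1 := (MemAt.iff_of_over ((Over.pullback x).map i' ≫ cj g⁻¹) (Red.bc x D.T) ((Over.pullback x).map D.i)).1 (by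
      rw [memAt_conj_iff]
      have h2 : (BcPts.bcEquiv x (Red.bc x D.T) G).symm ((Over.pullback x).map D.i) =
          (BcPts.bcEquiv x (Red.bc x D.T) D.T).symm (𝟙 _) ≫ D.i := by
        rw [← BcPts.bcEquiv_symm_comp, Category.id_comp]
      rw [h2]
      obtain ⟨h', hh'⟩ := hT _ (MemAt.strHom x (Red.bc x D.T)) ((BcPts.bcEquiv x (Red.bc x D.T) D.T).symm (𝟙 _))
      exact ⟨h', hh'.symm⟩)
    obtain ⟨t₂, ht₂⟩ := h1
    exact ⟨t₂, ht₂⟩
  have hR₁ : _root_.RedSub.IsTypeR ((Over.pullback x).map i) := by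
    refine isTypeR_of_isR0 hGB (isR0_bc x hH) ((Over.pullback x).map t) ?_
    rw [← Functor.map_comp, ht]
    exact hDB
  have hmc : IsMonHom (cjIso g⁻¹).hom := isMonHom_cj g⁻¹
  have hR₂ : _root_.RedSub.IsTypeR ((Over.pullback x).map i' ≫ cj g⁻¹) := by
    refine isTypeR_of_isR0 hGB (isR0_comp_iso (isR0_bc x hH') (cjIso g⁻¹)) t₂ ?_
    rw [← ht₂] at hDB
    exact hDB
  have key := hU B I hI (Red.bc x G) (Red.bc x H) (Red.bc x H') (SplitBc264.splitBc x D)
    ((Over.pullback x).map i) ((Over.pullback x).map i' ≫ cj g⁻¹) hR₁ hR₂ ((Over.pullback x).map t) t₂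
    (show (Over.pullback x).map t ≫ (Over.pullback x).map i = (Over.pullback x).map D.i by
      rw [← Functor.map_comp, ht]) ht₂ (by
      rintro X ⟨z, hz⟩ y
      rw [← MemAt.iff_of_over, ← MemAt.iff_of_over, memAt_conj_iff, memAt_map_iff]
      let z' : (Over.map x).obj X ⟶ Over.mk (Spec.map (CommRingCat.ofHom (Ideal.Quotient.mk I)) ≫ x) :=
        Over.homMk z (by
          change z ≫ Spec.map (CommRingCat.ofHom (Ideal.Quotient.mk I)) ≫ x = X.hom ≫ x
          rw [← Category.assoc, hz])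
      have hz' : z' ≫ redMap x I = MemAt.strHom x X := by
        ext1
        exact hz
      have h1 := (conjEq_iff_mem i i' (redMap x I ≫ g)).1 h0 _ z' ((BcPts.bcEquiv x X G).symm y)
      rw [← Category.assoc, hz'] at h1
      exact h1)
  rw [conjEq_iff_mem]
  intro X a y
  have h1 : MemAt ((Over.pullback x).map i) a y ↔ MemAt ((Over.pullback x).map i' ≫ cj g⁻¹) a y := by
    rw [memAt_iff, memAt_iff]
    exact key _ _
  rw [memAt_map_iff, memAt_conj_iff] at h1
  exact h1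

/-- Smoothness of the strict transporter when the first subgroup contains the torus of a splitting of `G` and the
transporter of this torus into the second subgroup is smooth. -/
theorem smooth_of_uniq (hU : UniqStmt.{u}) (i : H ⟶ G) (i' : H' ⟶ G)
    (hH : IsR0 i) (hH' : IsR0 i') (D : Red.SplitRed G) (t : D.T ⟶ H) (ht : t ≫ i = D.i)
    {F C : Over S} (e : F ⟶ G) [Smooth F.hom]
    (he : ∀ (T : Over S) (g : T ⟶ G), (∃ z : T ⟶ F, z ≫ e = g) ↔
        ∀ (T' : Over S) (t : T' ⟶ T) (h : T' ⟶ D.T), ∃ h' : T' ⟶ H', (t ≫ g) * (h ≫ D.i) * (t ≫ g)⁻¹ = h' ≫ i')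
    (c : C ⟶ G) (hc : _root_.RedSub.IsStrictTransporter i i' c) [LocallyOfFinitePresentation C.hom] :
    Smooth C.hom := by
  obtain ⟨hmono, hc⟩ := hc
  refine LocalLift.smooth_of_local_lift C.hom fun B _ _ I hI α β hαβ => ?_
  let a : Over.mk (Spec.map (CommRingCat.ofHom (Ideal.Quotient.mk I)) ≫ β) ⟶ C := Over.homMk α hαβ.symm
  have hca : _root_.RedSub.ConjEq i i' (a ≫ c) := (hc _ _).1 ⟨a, rfl⟩
  obtain ⟨b₀, hb₀⟩ := (he _ (a ≫ c)).2 (by
    intro T' s h
    obtain ⟨h', hh'⟩ := (hca T' s).1 (h ≫ t)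
    refine ⟨h', ?_⟩
    rw [← hh', Category.assoc, ht])
  obtain ⟨b, hb⟩ := TorSmooth893.exists_lift_of_smooth F B I hI β b₀
  have hg : redMap β I ≫ b ≫ e = a ≫ c := by rw [← Category.assoc, hb, hb₀]
  obtain ⟨l, hl⟩ := (hc _ (b ≫ e)).2 (conjEq_of_uniq hU I hI β i i' hH hH' D t ht (b ≫ e) (by rw [hg]; exact hca)
    ((he _ _).1 ⟨b, rfl⟩))
  have h1 : redMap β I ≫ l = a := by
    rw [← cancel_mono c, Category.assoc, hl, hg]
  exact ⟨l.left, congrArg CommaMorphism.left h1, Over.w l⟩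

end Groth.Agent.RedSub.H641.Assemble
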