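import Groth.Agent.RedSub.H641.SubPts

/-!
# Lifting of root groups inside a subgroup containing the torus, by averaging over the torus

`avg_mem`: `E` a ring with a coaction `σ` of the torus, `x ∈ E` of weight `-b`, `J` a square-zero stable ideal with
`u_b(x mod J) ∈ H(E/J)`. Then `∏ u_a(ȳ_a) · t̄ · u_b(x) ∈ H(E)` for some `y_a ∈ J`, `ȳ_a` the coefficient of `s^{-a}` in `σ(y_a)`,
and `t̄ ≡ 1`.
-/

set_option autoImplicit false
universe u

namespace Groth.Agent.RedSub.H641.AvgRoot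

open Groth.Agent.Sga3B.Cell Groth.Agent.Sga3B.InfConj Groth.Agent.RedSub.H641.ExtRing Groth.Agent.RedSub.H641.SubPts

variable {R A : Type u} [CommRing R] [CommRing A] [Algebra R A] [PtGrp R A] (D : Datum R A) (H : SubGr R A)
  (hT : ∀ (B : Type u) [CommRing B] [Algebra R B] (t : TPt D.M B), D.i B t ∈ H.mem B)

section small

variable {B : Type u} [CommRing B] [Algebra R B]

variable {D} in
/-- a cell element with coordinates in `J` is trivial modulo `J` -/
lemma cell_mod (J : Ideal B) (L : List D.idx) (x : D.idx → B) (t : TPt D.M B) (hx : ∀ a, x a ∈ J)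
    (ht : ∀ m, TPt.ch m t - 1 ∈ J) : Pt.map (Ideal.Quotient.mkₐ R J) (D.cell L x t) = 1 := by
  rw [D.cell_nat]
  have e1 : (fun a => (Ideal.Quotient.mkₐ R J) (x a)) = fun _ => 0 := by
    funext a
    exact Ideal.Quotient.eq_zero_iff_mem.2 (hx a)
  have e2 : TPt.map (Ideal.Quotient.mkₐ R J) t = 1 := by
    apply TPt.ext_ch
    intro m
    rw [TPt.ch_map, TPt.ch_one]
    have h1 : (Ideal.Quotient.mkₐ R J) (TPt.ch m t - 1) = 0 := Ideal.Quotient.eq_zero_iff_mem.2 (ht m)
    rw [map_sub, map_one, sub_eq_zero] at h1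
    exact h1
  rw [e1, e2, D.cell_zero, map_one]

variable {D} in
/-- an element trivial modulo a square-zero ideal is a cell element with small coordinates -/
lemma exists_cell_small (hD : D.Good) (J : Ideal B) (hJ : J * J = ⊥) (L : List D.idx) (hL : L.Nodup)
    (hcov : ∀ a, a ∈ L) (g : Pt R A B) (hg : Pt.map (Ideal.Quotient.mkₐ R J) g = 1) :
    ∃ (x : D.idx → B) (t : TPt D.M B), (∀ a, x a ∈ J) ∧ (∀ m, TPt.ch m t - 1 ∈ J) ∧ g = D.cell L x t := by
  obtain ⟨δ, hδ, hδ0⟩ := hD L hL hcov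
  have hnil : IsNilpotent (RingHom.ker (Ideal.Quotient.mkₐ R J : B →+* B ⧸ J)) := by
    refine ⟨2, ?_⟩
    have : RingHom.ker (Ideal.Quotient.mkₐ R J : B →+* B ⧸ J) = J := Ideal.mk_ker
    rw [this, pow_two, hJ]
    rfl
  have hunit : IsUnit (D.ev (fun _ => (0 : B ⧸ J)) 1 δ) := by
    have h3 := DFunLike.congr_fun (D.comp_ev (Algebra.ofId R (B ⧸ J)) (fun _ => (0 : R)) 1) δ
    rw [map_one, show (fun a : D.idx => (Algebra.ofId R (B ⧸ J)) (0 : R)) = fun _ => 0 from
      funext fun _ => map_zero _] at h3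
    have h4 : D.ev (fun _ => (0 : R)) 1 δ = 1 := hδ0
    have h6 : (Algebra.ofId R (B ⧸ J)) (D.ev (fun _ => (0 : R)) 1 δ) = (D.ev (fun _ => (0 : B ⧸ J)) 1) δ := h3
    rw [← h6, h4, map_one]
    exact isUnit_one
  obtain ⟨x, t, hx, ht, hcell⟩ := Datum.EtOn.exists_lift D hδ (φ := Ideal.Quotient.mkₐ R J)
    Ideal.Quotient.mk_surjective hnil (x₀ := fun _ => 0) (t₀ := 1) hunit (g := g) (by
      rw [hg, D.cell_zero, map_one])
  refine ⟨x, t, fun a => Ideal.Quotient.eq_zero_iff_mem.1 (hx a), fun m => ?_, hcell.symm⟩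
  rw [← Ideal.Quotient.eq_zero_iff_mem, map_sub, map_one, sub_eq_zero]
  have h1 := congrArg (TPt.ch m) ht
  rw [TPt.ch_map, TPt.ch_one] at h1
  exact h1

end small

variable {E : Type u} [CommRing E] [Algebra R E]

/-- the torus point with values in the small ring -/
noncomputable def tSmall {M : Type} [AddCommGroup M] (J : Ideal E) (σ : E →ₐ[R] MonoidAlgebra E (Multiplicative M))
    (hσJ : ∀ y ∈ J, σ y ∈ extIdeal (Multiplicative M) J) (t : TPt M E) (ht : ∀ m, TPt.ch m t - 1 ∈ J) :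
    TPt M (avgSub (C := E) (extIdeal (Multiplicative M) J)) :=
  MonoidHom.toHomUnits
    { toFun := fun m => ⟨σ (t m : E), 1, by
        rw [map_one, ← map_one σ, ← map_sub]
        exact hσJ _ (ht m.toAdd)⟩
      map_one' := by
        apply Subtype.ext
        change σ ((t 1 : Eˣ) : E) = 1
        rw [map_one, Units.val_one, map_one]
      map_mul' := fun m n => by
        apply Subtype.ext
        change σ ((t (m * n) : Eˣ) : E) = σ (t m : E) * σ (t n : E)
        rw [map_mul, Units.val_mul, map_mul] }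

lemma ch_tSmall {M : Type} [AddCommGroup M] (J : Ideal E) (σ : E →ₐ[R] MonoidAlgebra E (Multiplicative M))
    (hσJ : ∀ y ∈ J, σ y ∈ extIdeal (Multiplicative M) J) (t : TPt M E) (ht : ∀ m, TPt.ch m t - 1 ∈ J) (m : M) :
    (TPt.ch m (tSmall J σ hσJ t ht)).1 = σ (TPt.ch m t) := rfl

include hT in
theorem avg_mem (hD : D.Good) (J : Ideal E) (hJ : J * J = ⊥)
    (σ : E →ₐ[R] MonoidAlgebra E (Multiplicative D.M)) (hσJ : ∀ y ∈ J, σ y ∈ extIdeal (Multiplicative D.M) J)
    (b : D.idx) (x : E) (hx : MonoidAlgebra.single (Multiplicative.ofAdd (D.root b)) 1 * σ x =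
      algebraMap E (MonoidAlgebra E (Multiplicative D.M)) x)
    (h0 : D.uu b (E ⧸ J) (Ideal.Quotient.mk J x) ∈ H.mem (E ⧸ J)) (L : List D.idx) (hL : L.Nodup) (hcov : ∀ a, a ∈ L) :
    ∃ (y : D.idx → E) (t : TPt D.M E), (∀ a, y a ∈ J) ∧ (∀ m, TPt.ch m t - 1 ∈ J) ∧
      D.cell L (fun a => coeffOne E (Multiplicative D.M)
        (MonoidAlgebra.single (Multiplicative.ofAdd (D.root a)) 1 * σ (y a))) t * D.uu b E x ∈ H.mem E := by
  let Γ := Multiplicative D.M
  let F := MonoidAlgebra E Γ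
  let ι : E →ₐ[R] F := IsScalarTower.toAlgHom R E F
  obtain ⟨h, hh, hhx⟩ := H.exists_lift J hJ _ h0
  obtain ⟨y, t, hy, ht, hc⟩ := exists_cell_small hD J hJ L hL hcov (h * (D.uu b E x)⁻¹) (by
    rw [Pt.map_mul, hhx, Pt.map_inv, D.uu_nat]
    exact mul_inv_cancel _)
  -- the point over the small ring
  let val : avgSub (C := E) (extIdeal Γ J) →ₐ[R] F := (avgSub (C := E) (extIdeal Γ J)).val.restrictScalars R
  let ι' : E →ₐ[R] avgSub (C := E) (extIdeal Γ J) := IsScalarTower.toAlgHom R E _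
  have hval : val.comp ι' = ι := rfl
  let av : avgSub (C := E) (extIdeal Γ J) →ₐ[R] E := (avg E Γ J hJ).restrictScalars R
  have hav : av.comp ι' = AlgHom.id R E := by
    ext e
    exact (avg E Γ J hJ).commutes e
  have hyF : ∀ a, MonoidAlgebra.single (Multiplicative.ofAdd (D.root a)) 1 * σ (y a) ∈ extIdeal Γ J := fun a =>
    Ideal.mul_mem_left _ _ (hσJ _ (hy a))
  let y' : D.idx → avgSub (C := E) (extIdeal Γ J) := fun a =>
    ⟨MonoidAlgebra.single (Multiplicative.ofAdd (D.root a)) 1 * σ (y a), 0, by rw [map_zero, sub_zero]; exact hyF a⟩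
  let t' := tSmall J σ hσJ t ht
  let P : Pt R A (avgSub (C := E) (extIdeal Γ J)) := D.cell L y' t' * (Pt.map ι' (h * (D.uu b E x)⁻¹))⁻¹
  have hvt : TPt.map val t' = TPt.map σ t := by
    apply TPt.ext_ch
    intro m
    rw [TPt.ch_map, TPt.ch_map]
    rfl
  have hPv : Pt.map val P = D.i F (sU E D.M) * Pt.map σ h * (D.i F (sU E D.M))⁻¹ * (Pt.map ι h)⁻¹ := by
    have e1 : Pt.map σ h = D.cell L (fun a => σ (y a)) (TPt.map σ t) * D.uu b F (σ x) := by
      have e2 : h = D.cell L y t * D.uu b E x := by rw [← hc]; group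
      rw [e2, Pt.map_mul, D.cell_nat, D.uu_nat]
    have e3 : D.i F (sU E D.M) * Pt.map σ h * (D.i F (sU E D.M))⁻¹ =
        D.cell L (fun a => TPt.ch (D.root a) (sU E D.M) * σ (y a)) (TPt.map σ t) * Pt.map ι (D.uu b E x) := by
      have e7 : D.i F (sU E D.M) * D.cell L (fun a => σ (y a)) (TPt.map σ t) * (D.i F (sU E D.M))⁻¹ =
        D.cell L (fun a => TPt.ch (D.root a) (sU E D.M) * σ (y a)) (TPt.map σ t) := D.conj_cell (B := F) L _ _ _
      rw [e1, ← e7, D.uu_nat]
      have e4 : D.uu b F (ι x) = D.i F (sU E D.M) * D.uu b F (σ x) * (D.i F (sU E D.M))⁻¹ := by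
        rw [D.rel, ch_sU, hx]
        rfl
      rw [e4]
      group
    rw [e3]
    change Pt.map val (D.cell L y' t' * (Pt.map ι' (h * (D.uu b E x)⁻¹))⁻¹) = _
    rw [Pt.map_mul, Pt.map_inv, D.cell_nat, hvt, Pt.map_map, hval, Pt.map_mul, Pt.map_inv, mul_inv_rev, inv_inv,
      ← mul_assoc]
    rfl
  have hP : P ∈ H.mem _ := by
    refine H.sub_mem val Subtype.val_injective (extIdeal Γ J) (extIdeal_mul E Γ J hJ) ?_ _ ?_ ?_
    · intro r c hc
      refine ⟨⟨c, algebraMap R E r, ?_⟩, rfl⟩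
      rw [← IsScalarTower.algebraMap_apply R E F]
      exact hc
    · change Pt.map _ (Pt.map val (D.cell L y' t' * (Pt.map ι' (h * (D.uu b E x)⁻¹))⁻¹)) = 1
      have e5 : Pt.map (Ideal.Quotient.mkₐ R (extIdeal Γ J)) (Pt.map val (D.cell L y' t')) = 1 := by
        rw [D.cell_nat, hvt]
        apply cell_mod
        · exact hyF
        · intro m
          rw [TPt.ch_map, ← map_one σ, ← map_sub]
          exact hσJ _ (ht m)
      have e6 : Pt.map (Ideal.Quotient.mkₐ R (extIdeal Γ J)) (Pt.map val (Pt.map ι' (D.cell L y t))) = 1 := by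
        rw [D.cell_nat, D.cell_nat]
        apply cell_mod
        · intro a
          exact Ideal.mem_map_of_mem _ (hy a)
        · intro m
          rw [TPt.ch_map, TPt.ch_map, ← map_one val, ← map_one ι', ← map_sub, ← map_sub]
          exact Ideal.mem_map_of_mem _ (ht m)
      rw [Pt.map_mul, Pt.map_mul, Pt.map_inv, Pt.map_inv, hc, e5, e6, inv_one, mul_one]
    · rw [hPv]
      exact (H.mem F).mul_mem ((H.mem F).mul_mem ((H.mem F).mul_mem (hT _ _) (H.map_mem _ hh))
        ((H.mem F).inv_mem (hT _ _))) ((H.mem F).inv_mem (H.map_mem _ hh))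
  refine ⟨y, TPt.map av t', hy, ?_, ?_⟩
  · intro m
    rw [TPt.ch_map]
    have h1 : (TPt.ch m t').1 - algebraMap E F 1 ∈ extIdeal Γ J := by
      rw [ch_tSmall, map_one, ← map_one σ, ← map_sub]
      exact hσJ _ (ht m)
    exact avg_sub_mem (Γ := Γ) J hJ _ 1 h1
  · have h1 := H.map_mem av hP
    have h2 : Pt.map av P = D.cell L (fun a => av (y' a)) (TPt.map av t') * (h * (D.uu b E x)⁻¹)⁻¹ := by
      change Pt.map av (D.cell L y' t' * (Pt.map ι' (h * (D.uu b E x)⁻¹))⁻¹) = _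
      rw [Pt.map_mul, Pt.map_inv, D.cell_nat, Pt.map_map, hav, Pt.map_id]
    rw [h2] at h1
    have h3 := (H.mem E).mul_mem h1 hh
    have h4 : D.cell L (fun a => av (y' a)) (TPt.map av t') * (h * (D.uu b E x)⁻¹)⁻¹ * h =
        D.cell L (fun a => av (y' a)) (TPt.map av t') * D.uu b E x := by group
    rw [h4] at h3
    exact h3

end Groth.Agent.RedSub.H641.AvgRoot
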