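import Groth.Agent.RedSub.H641.SubPts

/-!
# Descent of tangent vectors along field extensions
-/

set_option autoImplicit false
universe u

namespace Groth.Agent.RedSub.H641.DualDesc

open Groth.Agent.Sga3B.Cell Groth.Agent.Sga3B.InfConj Groth.Agent.RedSub.H641.ExtRing Groth.Agent.RedSub.H641.SubPts
open TrivSqZeroExt

variable {R A : Type u} [CommRing R] [CommRing A] [Algebra R A] [PtGrp R A] (D : Datum R A) (H : SubGr R A)

/-- A root direction tangent to `H` over an extension field is tangent to `H`. -/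
theorem uu_eps_descend {K L : Type u} [Field K] [Field L] [Algebra R K] [Algebra R L] [Algebra K L] [IsScalarTower R K L]
    (b : D.idx) (h : D.uu b (DualNumber L) DualNumber.eps ∈ H.mem (DualNumber L)) :
    D.uu b (DualNumber K) DualNumber.eps ∈ H.mem (DualNumber K) := by
  classical
  let J : Ideal (DualNumber L) := RingHom.ker (TrivSqZeroExt.fstHom L L L).toRingHom
  have hmemJ : ∀ x : DualNumber L, x ∈ J ↔ TrivSqZeroExt.fst x = 0 := fun x => Iff.rfl
  have hJ : J * J = ⊥ := by
    rw [eq_bot_iff, Ideal.mul_le]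
    intro x hx y hy
    rw [hmemJ] at hx hy
    rw [Ideal.mem_bot]
    ext
    · rw [TrivSqZeroExt.fst_mul, hx, zero_mul]; rfl
    · rw [TrivSqZeroExt.snd_mul, hx, hy, zero_smul, MulOpposite.op_zero, zero_smul, add_zero]; rfl
  -- a functional
  obtain ⟨l, hl⟩ := LinearMap.exists_leftInverse_of_injective (Algebra.linearMap K L) (by
    rw [LinearMap.ker_eq_bot]
    exact (algebraMap K L).injective)
  have hl1 : ∀ k : K, l (algebraMap K L k) = k := fun k => LinearMap.congr_fun hl k
  have halg : ∀ k : K, algebraMap K (DualNumber L) k = inl (algebraMap K L k) := fun k => rfl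
  let Lin : avgSub (C := K) J →ₗ[K] DualNumber K :=
    { toFun := fun x => inl (l (TrivSqZeroExt.fst x.1)) + inr (l (TrivSqZeroExt.snd x.1))
      map_add' := fun x y => by
        change inl (l (TrivSqZeroExt.fst (x.1 + y.1))) + inr (l (TrivSqZeroExt.snd (x.1 + y.1))) = _
        rw [TrivSqZeroExt.fst_add, TrivSqZeroExt.snd_add, map_add, map_add, inl_add, inr_add]
        abel
      map_smul' := fun k x => by
        change inl (l (TrivSqZeroExt.fst (k • x.1))) + inr (l (TrivSqZeroExt.snd (k • x.1))) = k • _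
        rw [TrivSqZeroExt.fst_smul, TrivSqZeroExt.snd_smul, map_smul, map_smul, smul_add, inl_smul, inr_smul] }
  have hLin : ∀ x, Lin x = inl (l (TrivSqZeroExt.fst x.1)) + inr (l (TrivSqZeroExt.snd x.1)) := fun x => rfl
  have hL1 : Lin 1 = 1 := by
    rw [hLin]
    change inl (l (TrivSqZeroExt.fst (1 : DualNumber L))) + inr (l (TrivSqZeroExt.snd (1 : DualNumber L))) = _
    rw [TrivSqZeroExt.fst_one, TrivSqZeroExt.snd_one, map_zero, inr_zero, add_zero, ← map_one (algebraMap K L), hl1]
    rfl
  let φ : avgSub (C := K) J →ₐ[K] DualNumber K := extHom J hJ Lin hL1 (by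
    intro x y hx hy
    rw [hmemJ] at hx hy
    rw [hLin, hLin, hx, hy, map_zero, inl_zero, zero_add, zero_add, inr_mul_inr])
  let ιR : avgSub (C := K) J →ₐ[R] DualNumber L := (avgSub (C := K) J).val.restrictScalars R
  let ε : avgSub (C := K) J := ⟨DualNumber.eps, 0, by
    rw [map_zero, sub_zero, hmemJ]
    rfl⟩
  have h1 : D.uu b (avgSub (C := K) J) ε ∈ H.mem (avgSub (C := K) J) := by
    refine H.sub_mem ιR Subtype.val_injective J hJ ?_ _ ?_ ?_
    · intro r c hc
      refine ⟨⟨c, algebraMap R K r, ?_⟩, rfl⟩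
      rw [← IsScalarTower.algebraMap_apply R K (DualNumber L)]
      exact hc
    · rw [D.uu_nat, D.uu_nat]
      have : (Ideal.Quotient.mkₐ R J) (ιR ε) = 0 := Ideal.Quotient.eq_zero_iff_mem.2 ((hmemJ _).2 rfl)
      rw [this, D.uu_zero]
    · rw [D.uu_nat]
      exact h
  have h2 := H.map_mem (φ.restrictScalars R) h1
  rw [D.uu_nat] at h2
  have h3 : (φ.restrictScalars R) ε = DualNumber.eps := by
    change Lin ε = _
    rw [hLin]
    change inl (l (TrivSqZeroExt.fst (DualNumber.eps : DualNumber L))) +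
      inr (l (TrivSqZeroExt.snd (DualNumber.eps : DualNumber L))) = _
    rw [DualNumber.fst_eps, DualNumber.snd_eps, map_zero, inl_zero, zero_add, ← map_one (algebraMap K L), hl1]
    rfl
  rw [h3] at h2
  exact h2

end Groth.Agent.RedSub.H641.DualDesc
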