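import Groth.Agent.Sga3B.InfConj
import Mathlib.Algebra.DualNumber
import Mathlib.RingTheory.LocalRing.ResidueField.Basic
import Mathlib.RingTheory.Ideal.Quotient.Basic

/-!
# Ring homomorphisms out of `B + J[Γ]`

For a square-zero ideal `J` of `B` and a commutative group `Γ`: the homomorphisms `B + J[Γ] → B`,
`x ↦ x_1 + x_γ`, and, for `J = (y)`, `y ≠ 0`, `B` local with residue field `K`: `B + J[Γ] → K[ε]`,
`x ↦ x_1 mod 𝔪 + (x_γ / y) ε`.
-/

set_option autoImplicit false
universe u

namespace Groth.Agent.RedSub.H641.ExtRing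

open Groth.Agent.Sga3B.InfConj

section ext

variable {B E T : Type u} [CommRing B] [CommRing E] [Algebra B E] [CommRing T] [Algebra B T]

/-- A linear map on `B + 𝔍` which kills products of elements of `𝔍` in the target is multiplicative. -/
def extHom (J : Ideal E) (hJ : J * J = ⊥) (L : avgSub (C := B) J →ₗ[B] T) (h1 : L 1 = 1)
    (hL : ∀ x y : avgSub (C := B) J, x.1 ∈ J → y.1 ∈ J → L x * L y = 0) : avgSub (C := B) J →ₐ[B] T :=
  AlgHom.ofLinearMap L h1 (by
    intro x y
    obtain ⟨b, hb⟩ := x.2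
    obtain ⟨c, hc⟩ := y.2
    obtain ⟨x', hx'⟩ : ∃ x' : avgSub (C := B) J, x' = x - b • 1 := ⟨_, rfl⟩
    obtain ⟨y', hy'⟩ : ∃ y' : avgSub (C := B) J, y' = y - c • 1 := ⟨_, rfl⟩
    have hxv : x'.1 = x.1 - algebraMap B E b := by
      rw [hx']
      change x.1 - b • (1 : E) = _
      rw [Algebra.algebraMap_eq_smul_one]
    have hyv : y'.1 = y.1 - algebraMap B E c := by
      rw [hy']
      change y.1 - c • (1 : E) = _
      rw [Algebra.algebraMap_eq_smul_one]
    have hxJ : x'.1 ∈ J := by rw [hxv]; exact hb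
    have hyJ : y'.1 ∈ J := by rw [hyv]; exact hc
    have hxy : x' * y' = 0 := by
      apply Subtype.ext
      have := Ideal.mul_mem_mul hxJ hyJ
      rw [hJ] at this
      exact this
    have hx : x = b • 1 + x' := by rw [hx']; abel
    have hy : y = c • 1 + y' := by rw [hy']; abel
    have hmul : x * y = (b * c) • 1 + b • y' + c • x' := by
      rw [hx, hy]
      have e : (b • (1 : avgSub (C := B) J) + x') * (c • 1 + y') = (b * c) • 1 + b • y' + c • x' + x' * y' := by
        simp only [Algebra.smul_def, map_mul]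
        ring
      rw [e, hxy, add_zero]
    have hL2 := hL x' y' hxJ hyJ
    rw [hmul]
    rw [hx, hy]
    simp only [map_add, map_smul, h1]
    simp only [Algebra.smul_def, map_mul, mul_one]
    linear_combination -hL2)

lemma extHom_apply (J : Ideal E) (hJ : J * J = ⊥) (L : avgSub (C := B) J →ₗ[B] T) (h1 : L 1 = 1)
    (hL : ∀ x y : avgSub (C := B) J, x.1 ∈ J → y.1 ∈ J → L x * L y = 0) (x : avgSub (C := B) J) :
    extHom J hJ L h1 hL x = L x := rfl

end ext

section coef

variable {B : Type u} [CommRing B] {Γ : Type} [CommGroup Γ]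

omit [CommGroup Γ] in
/-- coefficient at `γ` -/
noncomputable def coefAt (γ : Γ) : MonoidAlgebra B Γ →ₗ[B] B where
  toFun f := f.coeff γ
  map_add' f g := by simp
  map_smul' r f := by simp

omit [CommGroup Γ] in
lemma coefAt_apply (γ : Γ) (f : MonoidAlgebra B Γ) : coefAt γ f = f.coeff γ := rfl

omit [CommGroup Γ] in
open Classical in
lemma coefAt_single (γ δ : Γ) (b : B) : coefAt γ (MonoidAlgebra.single δ b) = if δ = γ then b else 0 := by
  simp [coefAt_apply, Finsupp.single_apply]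

lemma coefAt_mem (γ : Γ) (J : Ideal B) (x : MonoidAlgebra B Γ) (hx : x ∈ extIdeal Γ J) : coefAt γ x ∈ J := by
  have hj' : x ∈ (J • ⊤ : Submodule B (MonoidAlgebra B Γ)) := by
    rw [Ideal.smul_top_eq_map]; exact hx
  refine Submodule.smul_induction_on hj' ?_ ?_
  · intro r hr n _
    rw [map_smul]
    exact J.mul_mem_right _ hr
  · intro x y hx hy
    rw [map_add]; exact J.add_mem hx hy

lemma coefAt_one_one : coefAt (1 : Γ) (1 : MonoidAlgebra B Γ) = 1 := by
  classical
  rw [MonoidAlgebra.one_def, coefAt_single, if_pos rfl]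

lemma coefAt_one_of_ne {γ : Γ} (hγ : γ ≠ 1) : coefAt γ (1 : MonoidAlgebra B Γ) = 0 := by
  classical
  rw [MonoidAlgebra.one_def, coefAt_single, if_neg (Ne.symm hγ)]

lemma coefAt_mem_of_ne {γ : Γ} (hγ : γ ≠ 1) (J : Ideal B) (x : avgSub (C := B) (extIdeal Γ J)) :
    coefAt γ x.1 ∈ J := by
  obtain ⟨b, hb⟩ := x.2
  have h1 := coefAt_mem γ J _ hb
  rw [map_sub, Algebra.algebraMap_eq_smul_one, map_smul, coefAt_one_of_ne hγ, smul_zero, sub_zero] at h1
  exact h1

/-- `B + J[Γ] → B`, `x ↦ x_1 + x_γ`. -/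
noncomputable def exG (γ : Γ) (hγ : γ ≠ 1) (J : Ideal B) (hJ : J * J = ⊥) :
    avgSub (C := B) (extIdeal Γ J) →ₐ[B] B :=
  extHom (extIdeal Γ J) (extIdeal_mul B Γ J hJ)
    ((coefAt 1 + coefAt γ).comp (avgSub (C := B) (extIdeal Γ J)).val.toLinearMap)
    (by
      change coefAt 1 (1 : MonoidAlgebra B Γ) + coefAt γ (1 : MonoidAlgebra B Γ) = 1
      rw [coefAt_one_one, coefAt_one_of_ne hγ, add_zero])
    (by
      intro x y hx hy
      change (coefAt 1 x.1 + coefAt γ x.1) * (coefAt 1 y.1 + coefAt γ y.1) = 0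
      have h1 : coefAt 1 x.1 + coefAt γ x.1 ∈ J := J.add_mem (coefAt_mem _ J _ hx) (coefAt_mem _ J _ hx)
      have h2 : coefAt 1 y.1 + coefAt γ y.1 ∈ J := J.add_mem (coefAt_mem _ J _ hy) (coefAt_mem _ J _ hy)
      have := Ideal.mul_mem_mul h1 h2
      rw [hJ] at this
      exact this)

lemma exG_apply (γ : Γ) (hγ : γ ≠ 1) (J : Ideal B) (hJ : J * J = ⊥) (x : avgSub (C := B) (extIdeal Γ J)) :
    exG γ hγ J hJ x = coefAt 1 x.1 + coefAt γ x.1 := rfl

end coef

section dual

variable {B : Type u} [CommRing B] [IsLocalRing B]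

/-- `r y ↦ r mod 𝔪` -/
theorem exists_div (y : B) (hy : y ≠ 0) :
    ∃ l : (Ideal.span {y}) →ₗ[B] IsLocalRing.ResidueField B,
      l ⟨y, Ideal.mem_span_singleton_self y⟩ = 1 := by
  let K := IsLocalRing.ResidueField B
  let e := Ideal.quotTorsionOfEquivSpanSingleton B B y
  have hle : Ideal.torsionOf B B y ≤ IsLocalRing.maximalIdeal B := by
    intro r hr
    rw [Ideal.mem_torsionOf_iff] at hr
    rw [IsLocalRing.mem_maximalIdeal, mem_nonunits_iff]
    intro hu
    obtain ⟨v, rfl⟩ := hu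
    apply hy
    have : (v⁻¹ : Bˣ).1 * (v.1 * y) = 0 := by rw [show v.1 * y = 0 from hr, mul_zero]
    rwa [← mul_assoc, Units.inv_mul, one_mul] at this
  let q : (B ⧸ Ideal.torsionOf B B y) →ₗ[B] K :=
    (Ideal.torsionOf B B y).liftQ (Algebra.linearMap B K) (by
      intro r hr
      rw [LinearMap.mem_ker, Algebra.linearMap_apply]
      exact (IsLocalRing.residue_eq_zero_iff r).2 (hle hr))
  refine ⟨q.comp e.symm.toLinearMap, ?_⟩
  have h1 : e (Ideal.Quotient.mk _ 1) = ⟨y, Ideal.mem_span_singleton_self y⟩ := by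
    apply Subtype.ext
    change ((e (Submodule.Quotient.mk 1)) : B) = y
    rw [Ideal.quotTorsionOfEquivSpanSingleton_apply_mk]
    simp
  rw [← h1]
  simp only [LinearMap.coe_comp, LinearEquiv.coe_coe, Function.comp_apply, LinearEquiv.symm_apply_apply]
  change q (Submodule.Quotient.mk 1) = 1
  rw [Submodule.liftQ_apply, Algebra.linearMap_apply, map_one]

open TrivSqZeroExt in
/-- `B + (y)[Γ] → K[ε]`, `x ↦ x_1 mod 𝔪 + (x_γ / y) ε`. -/
theorem exists_dual {Γ : Type} [CommGroup Γ] (γ : Γ) (hγ : γ ≠ 1) (y : B) (hy : y ≠ 0) (hy2 : y * y = 0) :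
    ∃ φ : avgSub (C := B) (extIdeal Γ (Ideal.span {y})) →ₐ[B] DualNumber (IsLocalRing.ResidueField B),
      ∀ x : avgSub (C := B) (extIdeal Γ (Ideal.span {y})), x.1 = MonoidAlgebra.single γ y → φ x = DualNumber.eps := by
  classical
  obtain ⟨l, hl⟩ := exists_div y hy
  have hJ : Ideal.span {y} * Ideal.span {y} = ⊥ := by
    rw [Ideal.span_singleton_mul_span_singleton, hy2]
    simp
  let K := IsLocalRing.ResidueField B
  have hym : y ∈ IsLocalRing.maximalIdeal B := by
    rw [IsLocalRing.mem_maximalIdeal, mem_nonunits_iff]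
    intro hu
    exact hy ((hu.mul_left_eq_zero).1 hy2)
  have hmem : Ideal.span {y} ≤ IsLocalRing.maximalIdeal B := by
    rw [Ideal.span_le, Set.singleton_subset_iff]
    exact hym
  let c : avgSub (C := B) (extIdeal Γ (Ideal.span {y})) →ₗ[B] Ideal.span {y} :=
    { toFun := fun x => ⟨coefAt γ x.1, coefAt_mem_of_ne hγ _ x⟩
      map_add' := fun x x' => Subtype.ext (map_add (coefAt γ) x.1 x'.1)
      map_smul' := fun r x => Subtype.ext (map_smul (coefAt γ) r x.1) }
  let L : avgSub (C := B) (extIdeal Γ (Ideal.span {y})) →ₗ[B] DualNumber K :=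
    { toFun := fun x => inl (algebraMap B K (coefAt 1 x.1)) + inr (l (c x))
      map_add' := fun x x' => by
        change inl (algebraMap B K (coefAt 1 (x.1 + x'.1))) + inr (l (c (x + x'))) = _
        rw [map_add, map_add, map_add, map_add, inl_add, inr_add]
        abel
      map_smul' := fun r x => by
        change inl (algebraMap B K (coefAt 1 (r • x.1))) + inr (l (c (r • x))) = r • _
        rw [map_smul (coefAt 1), map_smul c, map_smul l, smul_add, smul_eq_mul, map_mul, ← Algebra.smul_def,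
          inl_smul, inr_smul] }
  have hL : ∀ x, L x = inl (algebraMap B K (coefAt 1 x.1)) + inr (l (c x)) := fun x => rfl
  refine ⟨extHom (extIdeal Γ (Ideal.span {y})) (extIdeal_mul B Γ _ hJ) L ?_ ?_, ?_⟩
  · rw [hL]
    have h1 : c 1 = 0 := Subtype.ext (coefAt_one_of_ne hγ)
    have h2 : coefAt 1 (1 : avgSub (C := B) (extIdeal Γ (Ideal.span {y}))).1 = 1 := coefAt_one_one
    rw [h1, h2, map_one, map_zero, inr_zero, add_zero]
    rfl
  · intro x x' hx hx'
    have h1 : ∀ z : avgSub (C := B) (extIdeal Γ (Ideal.span {y})), z.1 ∈ extIdeal Γ (Ideal.span {y}) →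
        algebraMap B K (coefAt 1 z.1) = 0 := by
      intro z hz
      exact (IsLocalRing.residue_eq_zero_iff _).2 (hmem (coefAt_mem 1 _ _ hz))
    rw [hL, hL, h1 x hx, h1 x' hx', inl_zero, zero_add, zero_add, inr_mul_inr]
  · intro x hx
    rw [extHom_apply, hL]
    have h1 : coefAt 1 x.1 = 0 := by rw [hx, coefAt_single, if_neg hγ]
    have h2 : c x = ⟨y, Ideal.mem_span_singleton_self y⟩ := by
      apply Subtype.ext
      change coefAt γ x.1 = y
      rw [hx, coefAt_single, if_pos rfl]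
    rw [h1, h2, hl, map_zero, inl_zero, zero_add]
    rfl

end dual

end Groth.Agent.RedSub.H641.ExtRing
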