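import Groth.Agent.RedSub.H641.Assemble
import Groth.Agent.RedSub.H645.ConjEqIff
import Groth.Agent.Sga3B.RepDescent9

/-!
# The strict transporter of two subgroups of type (R): the theorem, from three inputs
-/

set_option autoImplicit false
universe u
open CategoryTheory Limits MonoidalCategory CartesianMonoidalCategory MonObj GrpObj AlgebraicGeometry

namespace Groth.Agent.RedSub.H641.Final

open Groth.Agent.Sga3B Groth.Agent.RedSub.H641.TypeRBc Groth.Agent.RedSub.H641.Assemble

/-- Étale locally a subgroup of type (R) contains the torus of a splitting of `G`. -/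
def TR1Stmt : Prop := ∀ {S : Scheme.{u}} {G H : Over S} [GrpObj G] [GrpObj H], Red.IsReductive G →
  ∀ (i : H ⟶ G), _root_.RedSub.IsTypeR i → ∀ s : S, ∃ (U : Scheme.{u}) (f : U ⟶ S), Etale f ∧ s ∈ Set.range f.base ∧
    ∃ (D : Red.SplitRed (Red.bc f G)) (t : D.T ⟶ Red.bc f H), t ≫ (Over.pullback f).map i = D.i

/-- The transporter of the torus of a splitting into a smooth immersed subgroup is smooth. -/
def TranspStmt : Prop := ∀ {S : Scheme.{u}} {G H' : Over S} [GrpObj G] [GrpObj H'] (D : Red.SplitRed G)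
  (i' : H' ⟶ G), IsR0 i' → ∀ (F : Over S) (e : F ⟶ G), IsClosedImmersion e.left → LocallyOfFinitePresentation e.left →
    (∀ (T : Over S) (g : T ⟶ G), (∃ z : T ⟶ F, z ≫ e = g) ↔
        ∀ (T' : Over S) (t : T' ⟶ T) (h : T' ⟶ D.T), ∃ h' : T' ⟶ H', (t ≫ g) * (h ≫ D.i) * (t ≫ g)⁻¹ = h' ≫ i') →
    Smooth F.hom

variable {S S' : Scheme.{u}} {G H H' : Over S} [GrpObj G] [GrpObj H] [GrpObj H']

theorem isStrictTransporter_bc (f : S' ⟶ S) {i : H ⟶ G} {i' : H' ⟶ G} {C : Over S} {c : C ⟶ G}
    (hc : _root_.RedSub.IsStrictTransporter i i' c) :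
    _root_.RedSub.IsStrictTransporter ((Over.pullback f).map i) ((Over.pullback f).map i') ((Over.pullback f).map c) := by
  obtain ⟨hm, hc⟩ := hc
  refine ⟨inferInstance, fun X g => ?_⟩
  rw [H645.ConjEqIff.conjEq_bc_iff, ← hc]
  constructor
  · rintro ⟨z, hz⟩
    refine ⟨(BcPts.bcEquiv f X C).symm z, ?_⟩
    rw [← BcPts.bcEquiv_symm_comp, hz]
    rfl
  · rintro ⟨z, hz⟩
    refine ⟨BcPts.bcEquiv f X C z, ?_⟩
    rw [← BcPts.bcEquiv_comp, hz]
    exact (BcPts.bcEquiv f X G).apply_symm_apply g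

theorem main (hU : UniqStmt.{u}) (hTR1 : TR1Stmt.{u}) (hF : TranspStmt.{u})
    (hG : Red.IsReductive G) (i : H ⟶ G) (i' : H' ⟶ G) (hH : _root_.RedSub.IsTypeR i) (hH' : _root_.RedSub.IsTypeR i') :
    ∃ (C : Over S) (c : C ⟶ G), _root_.RedSub.IsStrictTransporter i i' c ∧ IsClosedImmersion c.left ∧ Smooth C.hom := by
  have hGs : Smooth G.hom := hG.2.1
  have h1 : IsMonHom i := hH.1.1
  have h1' : IsMonHom i' := hH'.1.1
  have h2 : IsImmersion i.left := hH.1.2
  have h2' : IsImmersion i'.left := hH'.1.2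
  have h3 : Mono i := Over.mono_of_mono_left i
  have h3' : Mono i' := Over.mono_of_mono_left i'
  have h4 : Smooth H.hom := hH.2.1
  have h4' : Smooth H'.hom := hH'.2.1
  have h5 : GeometricallyIrreducible H.hom := geomIrr_of_conn hH.2.2.2.1
  have h5' : GeometricallyIrreducible H'.hom := geomIrr_of_conn hH'.2.2.2.1
  obtain ⟨C, c, hc, hc1, hc2⟩ := StrictTr.exists_strictTransporter i i'
  have hClfp : LocallyOfFinitePresentation C.hom := by
    rw [← Over.w c]
    infer_instance
  refine ⟨C, c, hc, hc1, RepDescent.of_etale_cover (P := @Smooth) C.hom fun s => ?_⟩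
  obtain ⟨U, f, hf, hs, D, t, ht⟩ := hTR1 hG i hH s
  refine ⟨U, f, hf, hs, ?_⟩
  have hR := isR0_bc f (isR0_of_isTypeR hH)
  have hR' := isR0_bc f (isR0_of_isTypeR hH')
  have hDT := D.maximalTorus.2.2.1
  have k1 := TorusAlgClosed.smooth_of_isTorus hDT
  have k2 := TorusIrr.geometricallyIrreducible_of_isTorus hDT
  have k3 : IsMonHom D.i := D.maximalTorus.1
  have k4 : IsMonHom ((Over.pullback f).map i') := hR'.1.1
  have k5 : IsImmersion ((Over.pullback f).map i').left := hR'.1.2
  have k6 : Mono ((Over.pullback f).map i') := Over.mono_of_mono_left _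
  have k7 : Smooth (Red.bc f H').hom := hR'.2.1
  have k8 : Smooth (Red.bc f G).hom := inferInstanceAs (Smooth (pullback.snd _ _))
  obtain ⟨F, e, he1, he2, he⟩ := StrictTr.exists_transp D.i ((Over.pullback f).map i')
  have hFs : Smooth F.hom := hF D ((Over.pullback f).map i') hR' F e he1 he2 he
  have hClfp' : LocallyOfFinitePresentation (Red.bc f C).hom :=
    inferInstanceAs (LocallyOfFinitePresentation (pullback.snd _ _))
  exact smooth_of_uniq hU ((Over.pullback f).map i) ((Over.pullback f).map i') hR hR' D t ht e he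
    ((Over.pullback f).map c) (isStrictTransporter_bc f hc)

end Groth.Agent.RedSub.H641.Final
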