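import Groth.Agent.RedSub.H641.Final
import Groth.Agent.RedSub.H643.TranspSmooth

/-!
# The strict transporter of two subgroups of type (R): the theorem, from two inputs
-/

set_option autoImplicit false
universe u
open CategoryTheory Limits MonoidalCategory CartesianMonoidalCategory MonObj GrpObj AlgebraicGeometry

namespace Groth.Agent.RedSub.H641.Final2

open Groth.Agent.Sga3B Groth.Agent.RedSub.H641.TypeRBc Groth.Agent.RedSub.H641.Assemble Groth.Agent.RedSub.H641.Final

theorem transpStmt : TranspStmt.{u} := by
  intro S G H' _ _ D i' hi' F e he1 he2 he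
  have hG := D.reductive
  have h0 : Smooth G.hom := hG.2.1
  have h00 : IsAffineHom G.hom := hG.1
  have h01 : IsSeparated G.hom := inferInstance
  have h1 : IsMonHom i' := hi'.1.1
  have h2 : IsImmersion i'.left := hi'.1.2
  have h3 : Mono i' := Over.mono_of_mono_left i'
  have h4 : Smooth H'.hom := hi'.2.1
  have h5 : IsMonHom D.i := D.maximalTorus.1
  have h6 : Mono e := Over.mono_of_mono_left e
  exact H643.TranspSmooth.smooth_transp D.maximalTorus.2.2.1 D.i i' e he

variable {S : Scheme.{u}} {G H H' : Over S} [GrpObj G] [GrpObj H] [GrpObj H']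

theorem main (hU : UniqStmt.{u}) (hTR1 : TR1Stmt.{u})
    (hG : Red.IsReductive G) (i : H ⟶ G) (i' : H' ⟶ G) (hH : _root_.RedSub.IsTypeR i) (hH' : _root_.RedSub.IsTypeR i') :
    ∃ (C : Over S) (c : C ⟶ G), _root_.RedSub.IsStrictTransporter i i' c ∧ IsClosedImmersion c.left ∧ Smooth C.hom :=
  Final.main hU hTR1 transpStmt hG i i' hH hH'

end Groth.Agent.RedSub.H641.Final2
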