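import Groth.Agent.RedSub.H641.SubPts
import Groth.Agent.Sga3B.Chart
import Groth.Agent.Sga3B.TorSmooth893
import Groth.Agent.Sga3B.LocalLift

/-!
# The subgroup functor of a smooth subgroup in an affine chart

`SchPts.subGr c i` : for a chart `c` of `G` over `Spec R` and a smooth immersed (mono is enough) subgroup `i : H ⟶ G`
with an affine neighbourhood of the unit section, the points of `G` in the chart which factor through `H`, as a `SubGr`.
-/

set_option autoImplicit false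
universe u
open CategoryTheory Limits MonoidalCategory CartesianMonoidalCategory MonObj GrpObj AlgebraicGeometry

namespace Groth.Agent.RedSub.H641.SchPts

open Groth.Agent.Sga3B Groth.Agent.Sga3B.Cell Groth.Agent.Sga3B.PinMod Groth.Agent.Sga3B.InfConj Groth.Agent.Sga3B.InfConjFam
open Groth.Agent.RedSub.H641.SubPts

variable {R : Type u} [CommRing R] {G H : Over (Spec (CommRingCat.of R))} [GrpObj G] [GrpObj H]
  (c : Chart G (𝟙 (Spec (CommRingCat.of R)))) (i : H ⟶ G) [IsMonHom i]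

/-- `Spec B` over `Spec R` in the two notations. -/
noncomputable def tBIso (B : Type u) [CommRing B] [Algebra R B] : tB (𝟙 (Spec (CommRingCat.of R))) B ≅ pt R B :=
  Over.isoMk (Iso.refl _) (by simp)

lemma tBIso_hom_left (B : Type u) [CommRing B] [Algebra R B] :
    (tBIso (R := R) B).hom.left = 𝟙 (Spec (CommRingCat.of B)) := rfl

lemma tBIso_inv_left (B : Type u) [CommRing B] [Algebra R B] :
    (tBIso (R := R) B).inv.left = 𝟙 (Spec (CommRingCat.of B)) := rfl

lemma ptMap_tBIso_inv {B C : Type u} [CommRing B] [Algebra R B] [CommRing C] [Algebra R C] (φ : B →ₐ[R] C) :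
    ptMap φ ≫ (tBIso (R := R) B).inv = (tBIso (R := R) C).inv ≫ tMap (𝟙 _) φ := by
  ext1
  rw [Over.comp_left, Over.comp_left, tBIso_inv_left, tBIso_inv_left, ptMap_left, tMap_left]
  erw [Category.comp_id]

/-- points of `H` in the chart of `G` -/
def memPt (B : Type u) [CommRing B] [Algebra R B] : Subgroup (Pt R c.A B) where
  carrier := {g | ∃ a : tB (𝟙 _) B ⟶ H, a ≫ i = c.pts B g}
  one_mem' := ⟨1, by rw [MonObj.one_comp, map_one]⟩
  mul_mem' := by
    rintro g h ⟨a, ha⟩ ⟨b, hb⟩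
    exact ⟨a * b, by rw [MonObj.mul_comp, map_mul, ha, hb]⟩
  inv_mem' := by
    rintro g ⟨a, ha⟩
    refine ⟨a⁻¹, ?_⟩
    rw [map_inv, ← ha]
    exact GrpObj.inv_comp a i

lemma mem_memPt {B : Type u} [CommRing B] [Algebra R B] {g : Pt R c.A B} :
    g ∈ memPt c i B ↔ ∃ a : tB (𝟙 _) B ⟶ H, a ≫ i = c.pts B g := Iff.rfl

theorem exists_lift_memPt [Smooth H.hom] {B : Type u} [CommRing B] [Algebra R B] (J : Ideal B) (hJ : J * J = ⊥)
    (g : Pt R c.A (B ⧸ J)) (hg : g ∈ memPt c i (B ⧸ J)) :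
    ∃ g' ∈ memPt c i B, Pt.map (Ideal.Quotient.mkₐ R J) g' = g := by
  obtain ⟨a, ha⟩ := hg
  let x : Spec (CommRingCat.of B) ⟶ Spec (CommRingCat.of R) := (tB (𝟙 (Spec (CommRingCat.of R))) B).hom
  have hx : Spec.map (CommRingCat.ofHom (Ideal.Quotient.mk J)) ≫ x =
      (tB (𝟙 (Spec (CommRingCat.of R))) (B ⧸ J)).hom := Over.w (tMap (𝟙 (Spec (CommRingCat.of R))) (Ideal.Quotient.mkₐ R J))
  obtain ⟨l, hl⟩ := TorSmooth893.exists_lift_of_smooth H B J hJ x (Over.homMk a.left (by rw [Over.w a]; exact hx.symm))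
  refine ⟨(c.pts B).symm (l ≫ i), ⟨l, by rw [MulEquiv.apply_symm_apply]⟩, ?_⟩
  rw [Chart.pts_symm_nat, ← MulEquiv.symm_apply_apply (c.pts (B ⧸ J)) g, ← ha]
  congr 1
  rw [← Category.assoc]
  congr 1
  ext1
  have h3 := congrArg CommaMorphism.left hl
  exact h3

theorem sub_memPt [Mono i] (hU : HasAffineUnitNhd H) {B C : Type u} [CommRing B] [Algebra R B] [CommRing C] [Algebra R C]
    (φ : B →ₐ[R] C) (hφ : Function.Injective φ) (J : Ideal C) (hJ : J * J = ⊥)
    (hB : ∀ (r : R) (c : C), c - algebraMap R C r ∈ J → ∃ b, φ b = c) (g : Pt R c.A B)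
    (h1 : Pt.map (Ideal.Quotient.mkₐ R J) (Pt.map φ g) = 1) (h2 : Pt.map φ g ∈ memPt c i C) : g ∈ memPt c i B := by
  obtain ⟨a, ha⟩ := h2
  obtain ⟨E, j, hj, hj'⟩ := hU
  -- the point over `pt R C`
  let a' : pt R C ⟶ H := (tBIso (R := R) C).inv ≫ a
  have ha' : ptMap (Ideal.Quotient.mkₐ R J) ≫ a' = 1 := by
    rw [← cancel_mono i, MonObj.one_comp, Category.assoc, Category.assoc, ha, ← Category.assoc, ptMap_tBIso_inv,
      Category.assoc, c.pts_nat, h1, map_one, MonObj.comp_one]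
  obtain ⟨y, hy, -⟩ := InfConj.exists_lift H E j hj' J hJ a' ha' φ.range (by
    intro r c hc
    obtain ⟨b, hb⟩ := hB r c hc
    exact ⟨b, hb⟩)
  let e : B ≃ₐ[R] φ.range := AlgEquiv.ofInjective φ hφ
  have he : φ.range.val.comp e.toAlgHom = φ := by
    ext b
    rfl
  have he2 : φ.range.val = φ.comp e.symm.toAlgHom := by
    ext b
    have h3 := DFunLike.congr_fun he (e.symm b)
    change φ.range.val (e (e.symm b)) = φ (e.symm b) at h3
    rw [e.apply_symm_apply] at h3
    exact h3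
  have hinj : Function.Injective (Pt.map (A := c.A) φ) := by
    intro p q hpq
    apply Pt.ext
    intro f
    exact hφ (congrArg (fun k : Pt R c.A C => k.hom f) hpq)
  refine ⟨(tBIso (R := R) B).hom ≫ ptMap e.symm.toAlgHom ≫ y, ?_⟩
  rw [← MulEquiv.symm_apply_eq (c.pts B)]
  apply hinj
  rw [Chart.pts_symm_nat, MulEquiv.symm_apply_eq, ← ha]
  rw [← cancel_epi (tBIso (R := R) C).inv, ← Category.assoc, ← ptMap_tBIso_inv]
  simp only [Category.assoc, Iso.inv_hom_id_assoc]
  rw [ptMap_comp_assoc, ← he2, ← Category.assoc, hy, Category.assoc]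

/-- The subgroup functor of a smooth subgroup. -/
noncomputable def subGr [Mono i] [Smooth H.hom] (hU : HasAffineUnitNhd H) : SubGr R c.A where
  mem B _ _ := memPt c i B
  map_mem := by
    rintro B C _ _ _ _ φ g ⟨a, ha⟩
    exact ⟨tMap (𝟙 _) φ ≫ a, by rw [Category.assoc, ha, c.pts_nat]⟩
  sub_mem φ hφ J hJ hB g h1 h2 := sub_memPt c i hU φ hφ J hJ hB g h1 h2
  exists_lift J hJ g hg := exists_lift_memPt c i J hJ g hg

end Groth.Agent.RedSub.H641.SchPts
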