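import Groth.Agent.Sga3B.LocalLift

/-!
# Smoothness at a point from lifting over local test rings
-/

set_option autoImplicit false
universe u
open CategoryTheory Limits AlgebraicGeometry

namespace Groth.Agent.RedSub.H641.SmAt

/-- The lifting property along square-zero quotients of local rings, at a point. -/
theorem mem_smoothLocus_of_local_lift {X S : Scheme.{u}} (f : X ⟶ S) [LocallyOfFinitePresentation f] (x : X)
    (H : ∀ (B : Type u) [CommRing B] [IsLocalRing B] (I : Ideal B), I * I = ⊥ →
      ∀ (α : Spec (CommRingCat.of (B ⧸ I)) ⟶ X) (β : Spec (CommRingCat.of B) ⟶ S),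
        Spec.map (CommRingCat.ofHom (Ideal.Quotient.mk I)) ≫ β = α ≫ f →
        (∀ p, Spec.map (CommRingCat.ofHom (Ideal.Quotient.mk I)) p = IsLocalRing.closedPoint B → α p = x) →
        ∃ γ : Spec (CommRingCat.of B) ⟶ X,
          Spec.map (CommRingCat.ofHom (Ideal.Quotient.mk I)) ≫ γ = α ∧ γ ≫ f = β) :
    x ∈ f.smoothLocus := by
  rw [Scheme.Hom.mem_smoothLocus]
  let A := S.presheaf.stalk (f x)
  let C := X.presheaf.stalk x
  let _ : Algebra A C := (f.stalkMap x).hom.toAlgebra
  change Algebra.FormallySmooth A C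
  apply S1350.formallySmooth_of_local_lifting
  intro B' _ _ _ φ hφ hk
  let I := RingHom.ker φ.toRingHom
  have hI : I * I = ⊥ := by rw [← pow_two]; exact hk
  let e : (B' ⧸ I) ≃+* C := RingHom.quotientKerEquivOfSurjective (f := φ.toRingHom) hφ
  have he : CommRingCat.ofHom (Ideal.Quotient.mk I) ≫ CommRingCat.ofHom e.toRingHom =
      CommRingCat.ofHom φ.toRingHom := by
    ext b
    exact RingHom.quotientKerEquivOfSurjective_apply_mk (f := φ.toRingHom) hφ b
  have he' : CommRingCat.ofHom φ.toRingHom ≫ CommRingCat.ofHom e.symm.toRingHom =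
      CommRingCat.ofHom (Ideal.Quotient.mk I) := by
    rw [← he, Category.assoc]
    ext b
    exact e.symm_apply_apply _
  obtain ⟨γ, hγ₁, hγ₂⟩ := H B' I hI (Spec.map (CommRingCat.ofHom e.symm.toRingHom) ≫ X.fromSpecStalk x)
    (Spec.map (CommRingCat.ofHom (algebraMap A B')) ≫ S.fromSpecStalk (f x))
    (by
      rw [Category.assoc, ← Scheme.SpecMap_stalkMap_fromSpecStalk, ← Spec.map_comp_assoc,
        ← Spec.map_comp_assoc]
      congr 2
      rw [← he']
      ext r
      exact congrArg e.symm (φ.commutes r))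
    (by
      intro p hp
      rw [← he', Spec.map_comp, Scheme.Hom.comp_apply] at hp
      have h1 : Spec.map (CommRingCat.ofHom e.symm.toRingHom) p = IsLocalRing.closedPoint C := by
        have hinj : Function.Injective (Spec.map (CommRingCat.ofHom φ.toRingHom)) :=
          PrimeSpectrum.comap_injective_of_surjective _ hφ
        apply hinj
        rw [hp]
        exact (S1350.closedPoint_eq φ.toRingHom hφ).symm
      rw [Scheme.Hom.comp_apply, h1]
      exact Scheme.fromSpecStalk_closedPoint)
  have hγ₁' : Spec.map (CommRingCat.ofHom φ.toRingHom) ≫ γ = X.fromSpecStalk x := by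
    rw [← he, Spec.map_comp, Category.assoc, hγ₁, ← Spec.map_comp_assoc]
    have : CommRingCat.ofHom e.symm.toRingHom ≫ CommRingCat.ofHom e.toRingHom = 𝟙 _ := by
      ext b; exact e.apply_symm_apply _
    rw [this, Spec.map_id, Category.id_comp]
  have hγ : γ (IsLocalRing.closedPoint B') = x := by
    rw [← S1350.closedPoint_eq φ.toRingHom hφ]
    have h1 := S1350.comp_apply_eq _ _ _ hγ₁' (IsLocalRing.closedPoint C)
    exact h1.trans Scheme.fromSpecStalk_closedPoint
  obtain ⟨g, -, hg⟩ := S1350.exists_stalk_hom γ x hγ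
  have h1 : g ≫ CommRingCat.ofHom φ.toRingHom = 𝟙 _ := by
    apply Spec.map_injective
    rw [← cancel_mono (X.fromSpecStalk x), Spec.map_comp, Category.assoc, hg, hγ₁']
    rw [Spec.map_id]
    exact (Category.id_comp (X.fromSpecStalk x)).symm
  have h2 : f.stalkMap x ≫ g = CommRingCat.ofHom (algebraMap A B') := by
    apply Spec.map_injective
    rw [← cancel_mono (S.fromSpecStalk (f x)), Spec.map_comp, Category.assoc,
      Scheme.SpecMap_stalkMap_fromSpecStalk, reassoc_of% hg, hγ₂]
  refine ⟨{ g.hom with commutes' := fun r => congr($(h2).hom r) }, ?_⟩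
  ext r
  exact congr($(h1).hom r)

end Groth.Agent.RedSub.H641.SmAt
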