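import Groth.Agent.RedSub.H641.DualDesc
import Groth.Agent.RedSub.H641.SmAt
import Groth.Agent.RedSub.H641.SchPts
import Groth.Agent.RedSub.H641.Germ
import Groth.Agent.Sga3B.ChartGood
import Groth.Agent.Sga3B.ChartEx
import Groth.Agent.Ega43.FPOfComp

/-!
# The germ of a smooth subgroup containing the torus

`R` local, `G` reductive over `Spec R` with a splitting `D`, `i : H ⟶ G` a smooth subgroup (mono) through which the torus
and the root groups of the list `L''` factor, no root of the complementary list `L'` being tangent to `H` at the closed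
point. Then the product map `(x, t) ↦ ∏_{a ∈ L''} u_a(x_a) · t` to `H` is smooth at the origin of the closed fibre.
-/

set_option autoImplicit false
universe u
open CategoryTheory Limits MonoidalCategory CartesianMonoidalCategory MonObj GrpObj AlgebraicGeometry

namespace Groth.Agent.RedSub.H641.GermAt

open Groth.Agent.Sga3B Groth.Agent.Sga3B.Cell Groth.Agent.Sga3B.PinMod Groth.Agent.Sga3B.InfConj Groth.Agent.Sga3B.InfConjFam
open Groth.Agent.RedSub.H641.SubPts Groth.Agent.RedSub.H641.SchPts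
open Groth.Agent.Sga3B.DSPts Groth.Agent.Sga3B.GaPts

variable {R : Type u} [CommRing R] {G H : Over (Spec (CommRingCat.of R))} [GrpObj G] [GrpObj H]
  (c : Chart G (𝟙 (Spec (CommRingCat.of R)))) (D : Red.SplitRed G) (i : H ⟶ G) [IsMonHom i]

/-- the points of the torus are points of `H` -/
lemma i_mem (t : D.T ⟶ H) (ht : t ≫ i = D.i) (B : Type u) [CommRing B] [Algebra R B] (y : TPt D.M B) :
    (c.datum D).i B y ∈ memPt c i B := by
  rw [mem_memPt]
  refine ⟨dsEquiv _ _ (chΓ _ y) ≫ Chart.splitInv D ≫ t, ?_⟩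
  rw [Chart.pts_i, Chart.j_eq, Category.assoc, Category.assoc, ht]

/-- the points of a root group contained in `H` are points of `H` -/
lemma uu_mem (a : D.idx) (v : Red.Ga (Spec (CommRingCat.of R)) ⟶ H) (hv : v ≫ i = D.u a)
    (B : Type u) [CommRing B] [Algebra R B] (x : B) :
    (c.datum D).uu a B x ∈ memPt c i B := by
  rw [mem_memPt]
  refine ⟨gaPt _ (fnOf _ x) ≫ v, ?_⟩
  rw [Chart.pts_uu, Category.assoc, hv]

/-- the unit section of the cell -/
noncomputable def orig : 𝟙_ (Over (Spec (CommRingCat.of R))) ⟶ tB (𝟙 (Spec (CommRingCat.of R))) (c.datum D).CR :=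
  Over.homMk (Spec.map (CommRingCat.ofHom ((c.datum D).ev0 : (c.datum D).CR →+* R))) (by
    change Spec.map _ ≫ Spec.map _ ≫ 𝟙 _ = 𝟙 _
    rw [Category.comp_id, ← Spec.map_comp, ← CommRingCat.ofHom_comp, AlgHom.comp_algebraMap]
    exact Spec.map_id _)

section

variable [IsLocalRing R]

set_option maxHeartbeats 1000000 in
theorem mem_smoothLocus [Mono i] [Smooth H.hom] (t : D.T ⟶ H) (ht : t ≫ i = D.i)
    (L' L'' : List (c.datum D).idx) (hnd : (L' ++ L'').Nodup) (hcov : ∀ a, a ∈ L' ++ L'')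
    (hR'' : ∀ a ∈ L'', ∀ (B : Type u) [CommRing B] [Algebra R B] (x : B), (c.datum D).uu a B x ∈ memPt c i B)
    (hR' : ∀ b ∈ L', (c.datum D).uu b (DualNumber (IsLocalRing.ResidueField R)) DualNumber.eps ∉
      memPt c i (DualNumber (IsLocalRing.ResidueField R)))
    (q : tB (𝟙 (Spec (CommRingCat.of R))) (c.datum D).CR ⟶ H)
    (hq : q ≫ i = c.pts _ ((c.datum D).cell L'' (c.datum D).xU (c.datum D).tU))
    [LocallyOfFinitePresentation q.left] :
    (orig c D).left (IsLocalRing.closedPoint R) ∈ q.left.smoothLocus := by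
  have hU : HasAffineUnitNhd H := LocalLift.hasAffineUnitNhd_of_isLocalRing H
  let E := c.datum D
  apply SmAt.mem_smoothLocus_of_local_lift
  intro B _ _ I hI α β hαβ hp
  -- the algebra structure on `B`
  obtain ⟨ψ, hψ⟩ : ∃ ψ : R →+* B, Spec.map (CommRingCat.ofHom ψ) = β ≫ H.hom :=
    ⟨(Spec.preimage (β ≫ H.hom)).hom, Spec.map_preimage _⟩
  let _ : Algebra R B := ψ.toAlgebra
  have hψ' : Spec.map (CommRingCat.ofHom (algebraMap R B)) = β ≫ H.hom := hψ
  let b : tB (𝟙 (Spec (CommRingCat.of R))) B ⟶ H := Over.homMk β (by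
    change β ≫ H.hom = Spec.map (CommRingCat.ofHom (algebraMap R B)) ≫ 𝟙 _
    rw [hψ', Category.comp_id])
  -- the algebra map of `α`
  have hα : α ≫ Spec.map (CommRingCat.ofHom (algebraMap R E.CR)) =
      Spec.map (CommRingCat.ofHom (algebraMap R (B ⧸ I))) := by
    have h1 : q.left ≫ H.hom = Spec.map (CommRingCat.ofHom (algebraMap R E.CR)) ≫ 𝟙 _ := Over.w q
    rw [Category.comp_id] at h1
    rw [← h1, ← Category.assoc, ← hαβ, Category.assoc, ← hψ', ← Spec.map_comp, ← CommRingCat.ofHom_comp]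
  obtain ⟨α', hα'⟩ : ∃ α' : E.CR →ₐ[R] B ⧸ I, Spec.map (CommRingCat.ofHom (α' : E.CR →+* B ⧸ I)) = α := by
    refine ⟨{ (Spec.preimage α).hom with commutes' := fun r => ?_ }, Spec.map_preimage α⟩
    rw [← Spec.map_preimage α, ← Spec.map_comp] at hα
    exact congr($(Spec.map_injective hα) r)
  have hα'' : (tMap (𝟙 (Spec (CommRingCat.of R))) α') ≫ q =
      tMap (𝟙 (Spec (CommRingCat.of R))) (Ideal.Quotient.mkₐ R I) ≫ b := by
    ext1
    rw [Over.comp_left, Over.comp_left, tMap_left, tMap_left, hα', ← hαβ]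
    rfl
  let h : Pt R c.A B := (c.pts B).symm (b ≫ i)
  have hh : h ∈ memPt c i B := ⟨b, (MulEquiv.apply_symm_apply _ _).symm⟩
  have hc : Pt.map (Ideal.Quotient.mkₐ R I) h = E.cell L'' (fun a => α' (E.xU a)) (TPt.map α' E.tU) := by
    rw [Chart.pts_symm_nat, ← Category.assoc, ← hα'', Category.assoc, hq, c.pts_nat, MulEquiv.symm_apply_apply]
    exact E.cell_nat L'' α' E.xU E.tU
  -- the closed point
  obtain ⟨p, hpp⟩ := specMap_quotient_surjective I hI (IsLocalRing.closedPoint B)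
  have hαp := hp p hpp
  have hloc : IsLocalHom (algebraMap R B) := by
    rw [IsLocalRing.isLocalHom_iff_comap_closedPoint]
    change Spec.map (CommRingCat.ofHom (algebraMap R B)) (IsLocalRing.closedPoint B) = _
    rw [hψ', ← hpp]
    have h1 : (Spec.map (CommRingCat.ofHom (Ideal.Quotient.mk I)) ≫ β ≫ H.hom) p =
        (α ≫ q.left ≫ H.hom) p := by rw [← Category.assoc, hαβ, Category.assoc]
    simp only [Scheme.Hom.comp_apply] at h1 ⊢
    rw [h1, hαp, ← Scheme.Hom.comp_apply]
    have h2 : q.left ≫ H.hom = (tB (𝟙 (Spec (CommRingCat.of R))) E.CR).hom := Over.w q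
    rw [h2]
    exact Germ.section_fibre (orig c D) _
  have hmem : ∀ (f : E.CR) (d : B), E.ev0 f = 0 → Ideal.Quotient.mk I d = α' f → d ∈ IsLocalRing.maximalIdeal B := by
    intro f d hf hd
    have h1 : f ∈ (α p).asIdeal := by
      rw [hαp]
      change E.ev0 f ∈ IsLocalRing.maximalIdeal R
      rw [hf]
      exact Ideal.zero_mem _
    rw [← hα'] at h1
    have h2 : α' f ∈ p.asIdeal := h1
    rw [← hd] at h2
    have h3 : d ∈ (Spec.map (CommRingCat.ofHom (Ideal.Quotient.mk I)) p).asIdeal := h2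
    rw [hpp] at h3
    exact h3
  obtain ⟨x, y, hx, hy, hcell⟩ := exists_cell_of_mem (c.datum D) (subGr c i hU) (fun B _ _ y => i_mem c D i t ht B y)
    (c.good D) L' L'' hnd hcov (fun a ha x => hR'' a ha B x)
    (by
      intro b hb hb'
      exact hR' b hb (DualDesc.uu_eps_descend (c.datum D) (subGr c i hU) b hb'))
    I hI h hh _ _
    (by
      intro a ha d hd
      refine hmem (E.xU a) d ?_ hd
      exact E.ev_X _ _ a)
    (by
      intro m d hd
      refine hmem (TPt.ch m E.tU - 1) (d - 1) ?_ ?_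
      · rw [map_sub, map_one, ← TPt.ch_map]
        change TPt.ch m (TPt.map (E.ev _ _) E.tU) - 1 = 0
        rw [E.map_ev_tU, TPt.ch_one, sub_self]
      · rw [map_sub, map_sub, map_one, map_one, hd, TPt.ch_map])
    hc
  -- the lift
  choose xx hxx using fun a => Ideal.Quotient.mk_surjective (I := I) (α' (E.xU a))
  classical
  let x' : E.idx → B := fun a => if a ∈ L'' then x a else xx a
  have hx' : ∀ a, Ideal.Quotient.mk I (x' a) = α' (E.xU a) := by
    intro a
    by_cases ha : a ∈ L''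
    · rw [show x' a = x a from if_pos ha]
      exact hx a ha
    · rw [show x' a = xx a from if_neg ha]
      exact hxx a
  have hcell' : E.cell L'' x y = E.cell L'' x' y := cell_congr L'' (fun a ha => (if_pos ha).symm) y
  have hγ : tMap (𝟙 (Spec (CommRingCat.of R))) (E.ev x' y) ≫ q = b := by
    rw [← cancel_mono i, Category.assoc, hq, c.pts_nat]
    have h1 : Pt.map (E.ev x' y) (E.cell L'' E.xU E.tU) = h := by
      rw [E.cell_nat]
      simp only [Datum.ev_xU, Datum.map_ev_tU]
      rw [← hcell', ← hcell]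
    rw [h1]
    exact MulEquiv.apply_symm_apply _ _
  refine ⟨(tMap (𝟙 (Spec (CommRingCat.of R))) (E.ev x' y)).left, ?_, congrArg CommaMorphism.left hγ⟩
  rw [← hα', tMap_left, ← Spec.map_comp, ← CommRingCat.ofHom_comp]
  have h2 : (Ideal.Quotient.mkₐ R I).comp (E.ev x' y) = α' := by
    rw [E.comp_ev, E.eq_ev α', hy]
    congr 1
    funext a
    exact hx' a
  rw [← h2]
  rfl

/-- **Comparison of two smooth subgroups containing the torus.** -/
theorem exists_le [Mono i] [Smooth H.hom] (hconn : _root_.RedSub.HasConnectedFibres H) (t : D.T ⟶ H) (ht : t ≫ i = D.i)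
    {H₂ : Over (Spec (CommRingCat.of R))} [GrpObj H₂] (i₂ : H₂ ⟶ G) [IsMonHom i₂] [Mono i₂]
    (t₂ : D.T ⟶ H₂) (ht₂ : t₂ ≫ i₂ = D.i)
    (L' L'' : List (c.datum D).idx) (hnd : (L' ++ L'').Nodup) (hcov : ∀ a, a ∈ L' ++ L'')
    (hR'' : ∀ a ∈ L'', ∀ (B : Type u) [CommRing B] [Algebra R B] (x : B), (c.datum D).uu a B x ∈ memPt c i B)
    (hR''₂ : ∀ a ∈ L'', ∀ (B : Type u) [CommRing B] [Algebra R B] (x : B), (c.datum D).uu a B x ∈ memPt c i₂ B)
    (hR' : ∀ b ∈ L', (c.datum D).uu b (DualNumber (IsLocalRing.ResidueField R)) DualNumber.eps ∉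
      memPt c i (DualNumber (IsLocalRing.ResidueField R))) : ∃ v : H ⟶ H₂, v ≫ i₂ = i := by
  have hcell : ∀ (H₀ : Over (Spec (CommRingCat.of R))) [GrpObj H₀] (i₀ : H₀ ⟶ G) [IsMonHom i₀] (t₀ : D.T ⟶ H₀),
      t₀ ≫ i₀ = D.i → (∀ a ∈ L'', ∀ (B : Type u) [CommRing B] [Algebra R B] (x : B),
        (c.datum D).uu a B x ∈ memPt c i₀ B) →
      (c.datum D).cell L'' (c.datum D).xU (c.datum D).tU ∈ memPt c i₀ (c.datum D).CR := by
    intro H₀ _ i₀ _ t₀ ht₀ h₀
    unfold Datum.cell
    refine (memPt c i₀ _).mul_mem ?_ (i_mem c D i₀ t₀ ht₀ _ _)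
    apply Subgroup.list_prod_mem
    intro y hy
    obtain ⟨a, ha, rfl⟩ := List.mem_map.mp hy
    exact h₀ a ha _ _
  obtain ⟨q, hq⟩ := hcell H i t ht hR''
  obtain ⟨r, hr⟩ := hcell H₂ i₂ t₂ ht₂ hR''₂
  have hfp : LocallyOfFinitePresentation (q.left ≫ H.hom) := by
    have h1 : q.left ≫ H.hom = Spec.map (CommRingCat.ofHom (algebraMap R (c.datum D).CR)) ≫ 𝟙 _ := Over.w q
    rw [h1, Category.comp_id, LocallyOfFinitePresentation.SpecMap_iff]
    change (algebraMap R (c.datum D).CR).FinitePresentation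
    rw [RingHom.finitePresentation_algebraMap]
    infer_instance
  have hfp2 : LocallyOfFinitePresentation q.left := Ega43.FPOfComp.locallyOfFinitePresentation_of_comp q.left H.hom
  have key := mem_smoothLocus c D i t ht L' L'' hnd hcov hR'' hR' q hq
  exact Germ.exists_lift_of_smooth_at_closedPoint i i₂ hconn _ q (orig c D) key r (by rw [hq, hr])

end

end Groth.Agent.RedSub.H641.GermAt
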