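import Groth.Agent.RedSub.H641.AvgRoot
import Mathlib.RingTheory.Polynomial.Basic

/-!
# Lifting root groups inside a subgroup containing the torus: the two cases

* `root_lift` : if `u_b` is in `H` modulo a square-zero ideal of the base then `u_b` is in `H`.
* `root_thick` : if `u_b(ε) ∈ H(K[ε])` then `u_b(x) ∈ H(K[x]/(x^{m+1}))` for all `m`.
-/

set_option autoImplicit false
universe u

namespace Groth.Agent.RedSub.H641.RootLift

open Groth.Agent.Sga3B.Cell Groth.Agent.Sga3B.InfConj Groth.Agent.RedSub.H641.ExtRing Groth.Agent.RedSub.H641.SubPts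
open Groth.Agent.RedSub.H641.AvgRoot
open Polynomial

variable {R A : Type u} [CommRing R] [CommRing A] [Algebra R A] [PtGrp R A] (D : Datum R A) (H : SubGr R A)
  (hT : ∀ (B : Type u) [CommRing B] [Algebra R B] (t : TPt D.M B), D.i B t ∈ H.mem B)

/-- no root is a multiple of another one by a natural number `≠ 1` -/
def Red (b : D.idx) : Prop := ∀ (a : D.idx) (n : ℕ), D.root a = n • D.root b → n = 1

variable {E : Type u} [CommRing E] [Algebra R E]

variable {D} in
lemma cell_single' {L : List D.idx} (hL : L.Nodup) {b : D.idx} (hb : b ∈ L) (x : D.idx → E) (t : TPt D.M E)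
    (hx : ∀ a, a ≠ b → x a = 0) : D.cell L x t = D.uu b E (x b) * D.i E t := by
  rw [← cell_single hL hb x hx, D.cell_mul_i]
  exact congrArg (D.cell L x) (one_mul t).symm

variable {D} in
/-- moving the torus element -/
lemma uu_mul_i (b : D.idx) (x : E) (t : TPt D.M E) : D.uu b E x * D.i E t = D.i E t * D.uu b E (TPt.ch (D.root b) t⁻¹ * x) := by
  have h1 : D.i E t⁻¹ = (D.i E t)⁻¹ := map_inv (D.i E) t
  rw [← D.rel, h1]
  group

include hT in
/-- Consequence of `avg_mem`: only the `b`-coordinate survives. -/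
theorem avg_mem_single (hD : D.Good) (J : Ideal E) (hJ : J * J = ⊥)
    (σ : E →ₐ[R] MonoidAlgebra E (Multiplicative D.M)) (hσJ : ∀ y ∈ J, σ y ∈ extIdeal (Multiplicative D.M) J)
    (b : D.idx) (x : E) (hx : MonoidAlgebra.single (Multiplicative.ofAdd (D.root b)) 1 * σ x =
      algebraMap E (MonoidAlgebra E (Multiplicative D.M)) x)
    (h0 : D.uu b (E ⧸ J) (Ideal.Quotient.mk J x) ∈ H.mem (E ⧸ J))
    (hne : ∀ a, a ≠ b → ∀ y ∈ J, coeffOne E (Multiplicative D.M)
        (MonoidAlgebra.single (Multiplicative.ofAdd (D.root a)) 1 * σ y) = 0) :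
    ∃ y ∈ J, D.uu b E (coeffOne E (Multiplicative D.M)
        (MonoidAlgebra.single (Multiplicative.ofAdd (D.root b)) 1 * σ y) + x) ∈ H.mem E := by
  classical
  have hnd := Finset.nodup_toList (Finset.univ : Finset D.idx)
  have hcov : ∀ a, a ∈ (Finset.univ : Finset D.idx).toList := fun a => Finset.mem_toList.2 (Finset.mem_univ a)
  obtain ⟨y, t, hy, ht, h⟩ := avg_mem D H hT hD J hJ σ hσJ b x hx h0 _ hnd hcov
  have hbJ : coeffOne E (Multiplicative D.M)
        (MonoidAlgebra.single (Multiplicative.ofAdd (D.root b)) 1 * σ (y b)) ∈ J :=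
    coeffOne_mem E (Multiplicative D.M) J _ (Ideal.mul_mem_left _ _ (hσJ _ (hy b)))
  rw [cell_single' hnd (hcov b) _ t (fun a ha => hne a ha _ (hy a)), uu_mul_i] at h
  have h1 : TPt.ch (D.root b) t⁻¹ * coeffOne E (Multiplicative D.M)
        (MonoidAlgebra.single (Multiplicative.ofAdd (D.root b)) 1 * σ (y b)) = coeffOne E (Multiplicative D.M)
        (MonoidAlgebra.single (Multiplicative.ofAdd (D.root b)) 1 * σ (y b)) := by
    generalize coeffOne E (Multiplicative D.M)
        (MonoidAlgebra.single (Multiplicative.ofAdd (D.root b)) 1 * σ (y b)) = z at hbJ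
    have h2 : (TPt.ch (D.root b) t - 1) * z = 0 := by
      have := Ideal.mul_mem_mul (ht (D.root b)) hbJ
      rw [hJ] at this
      exact this
    have h3 : TPt.ch (D.root b) t⁻¹ * TPt.ch (D.root b) t = 1 := by
      rw [← TPt.ch_mul]
      exact (congrArg (TPt.ch (D.root b)) (inv_mul_cancel t)).trans (TPt.ch_one _)
    calc TPt.ch (D.root b) t⁻¹ * z = TPt.ch (D.root b) t⁻¹ * (TPt.ch (D.root b) t * z - (TPt.ch (D.root b) t - 1) * z) := by
          ring
      _ = z := by rw [h2, sub_zero, ← mul_assoc, h3, one_mul]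
  rw [h1, mul_assoc, ← D.uu_add] at h
  refine ⟨y b, hy b, ?_⟩
  have h4 := (H.mem E).mul_mem ((H.mem E).inv_mem (hT E t)) h
  rwa [inv_mul_cancel_left] at h4

section poly

variable {B : Type u} [CommRing B] [Algebra R B]

/-- the coaction on polynomials: `X ↦ s^{-b} X` -/
noncomputable def sigP (Γ : Type) [CommGroup Γ] (γ : Γ) : B[X] →ₐ[B] MonoidAlgebra B[X] Γ :=
  Polynomial.aeval (MonoidAlgebra.single γ⁻¹ (X : B[X]))

lemma sigP_monomial (Γ : Type) [CommGroup Γ] (γ : Γ) (n : ℕ) (r : B) :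
    sigP Γ γ (Polynomial.monomial n r) = MonoidAlgebra.single (γ⁻¹ ^ n) (Polynomial.monomial n r) := by
  unfold sigP
  rw [Polynomial.aeval_monomial, MonoidAlgebra.single_pow, Algebra.algebraMap_eq_smul_one, smul_mul_assoc, one_mul,
    MonoidAlgebra.smul_single, ← Polynomial.C_mul_X_pow_eq_monomial, Polynomial.smul_eq_C_mul]

variable (B) in
/-- the averaged coefficient, a linear map -/
noncomputable def coefLin (Γ : Type) [CommGroup Γ] (γ α : Γ) : B[X] →ₗ[B] B[X] :=
  ((coeffOne B[X] Γ).restrictScalars B) ∘ₗ (LinearMap.mulLeft B (MonoidAlgebra.single α (1 : B[X]))) ∘ₗ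
    (sigP (B := B) Γ γ).toLinearMap

lemma coefLin_apply (Γ : Type) [CommGroup Γ] (γ α : Γ) (y : B[X]) :
    coefLin B Γ γ α y = coeffOne B[X] Γ (MonoidAlgebra.single α 1 * sigP Γ γ y) := rfl

open Classical in
lemma coefLin_monomial (Γ : Type) [CommGroup Γ] (γ α : Γ) (n : ℕ) (r : B) :
    coefLin B Γ γ α (Polynomial.monomial n r) = if α = γ ^ n then Polynomial.monomial n r else 0 := by
  rw [coefLin_apply, sigP_monomial, MonoidAlgebra.single_mul_single, one_mul, coeffOne_single]
  have : (α * γ⁻¹ ^ n = 1) ↔ α = γ ^ n := by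
    rw [inv_pow, mul_inv_eq_one]
  simp only [this]

end poly

variable {B : Type u} [CommRing B] [Algebra R B]

include hT in
/-- **Lifting of root groups.** -/
theorem root_lift (hD : D.Good) (b : D.idx) (hred : Red D b) (I : Ideal B) (hI : I * I = ⊥)
    (h0 : D.uu b (B[X] ⧸ I.map C) (Ideal.Quotient.mk _ X) ∈ H.mem (B[X] ⧸ I.map C)) :
    D.uu b B[X] X ∈ H.mem B[X] := by
  classical
  let Γ := Multiplicative D.M
  let γ : Γ := Multiplicative.ofAdd (D.root b)
  let J : Ideal B[X] := I.map C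
  have hJ : J * J = ⊥ := by rw [← Ideal.map_mul, hI, Ideal.map_bot]
  let σ : B[X] →ₐ[R] MonoidAlgebra B[X] Γ := (sigP (B := B) Γ γ).restrictScalars R
  have hσJ : ∀ y ∈ J, σ y ∈ extIdeal Γ J := by
    have h1 : J ≤ (extIdeal Γ J).comap (σ : B[X] →+* MonoidAlgebra B[X] Γ) := by
      rw [Ideal.map_le_iff_le_comap]
      intro r hr
      change (sigP (B := B) Γ γ) (algebraMap B B[X] r) ∈ extIdeal Γ J
      rw [AlgHom.commutes, IsScalarTower.algebraMap_apply B B[X] (MonoidAlgebra B[X] Γ)]
      exact Ideal.mem_map_of_mem _ (Ideal.mem_map_of_mem _ hr)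
    exact fun y hy => h1 hy
  have hmult : ∀ (a : D.idx) (n : ℕ), Multiplicative.ofAdd (D.root a) = γ ^ n → n = 1 ∧ a = b := by
    intro a n h
    have h1 : D.root a = n • D.root b := by
      rw [← ofAdd_nsmul] at h
      exact Multiplicative.ofAdd.injective h
    have h2 := hred a n h1
    refine ⟨h2, ?_⟩
    rw [h2, one_smul] at h1
    exact D.root_inj h1
  obtain ⟨y, hy, h⟩ := avg_mem_single D H hT hD J hJ σ hσJ b (X : B[X])
    (by
      change _ * sigP (B := B) Γ γ X = _
      unfold sigP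
      rw [Polynomial.aeval_X, MonoidAlgebra.single_mul_single, mul_inv_cancel, one_mul]
      rfl)
    h0
    (by
      intro a ha y hy
      have h1 : coefLin B Γ γ (Multiplicative.ofAdd (D.root a)) = 0 := by
        apply Polynomial.lhom_ext'
        intro n
        apply LinearMap.ext
        intro r
        rw [LinearMap.comp_apply, coefLin_monomial, if_neg]
        · rfl
        · intro h
          exact ha (hmult a n h).2
      exact LinearMap.congr_fun h1 y)
  have h1 : coefLin B Γ γ (Multiplicative.ofAdd (D.root b)) y = C (y.coeff 1) * X := by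
    have h2 : coefLin B Γ γ (Multiplicative.ofAdd (D.root b)) =
        (Polynomial.monomial 1) ∘ₗ (Polynomial.lcoeff B 1) := by
      apply Polynomial.lhom_ext'
      intro n
      apply LinearMap.ext
      intro r
      rw [LinearMap.comp_apply, coefLin_monomial, LinearMap.comp_apply, LinearMap.comp_apply, Polynomial.lcoeff_apply,
        Polynomial.coeff_monomial]
      by_cases hn : n = 1
      · subst hn
        rw [if_pos (by rw [pow_one]), if_pos rfl]
      · rw [if_neg (fun h => hn (hmult b n h).1), if_neg hn, map_zero]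
    rw [h2, LinearMap.comp_apply, Polynomial.lcoeff_apply, Polynomial.C_mul_X_eq_monomial]
  change D.uu b B[X] (coefLin B Γ γ (Multiplicative.ofAdd (D.root b)) y + X) ∈ _ at h
  rw [h1] at h
  set k := y.coeff 1 with hk
  have hkI : k ∈ I := (Ideal.mem_map_C_iff.1 hy) 1
  have hk2 : k * k = 0 := by
    have := Ideal.mul_mem_mul hkI hkI
    rw [hI] at this
    exact this
  let ψ : B[X] →ₐ[R] B[X] := (Polynomial.aeval (C (1 - k) * X : B[X]) : B[X] →ₐ[B] B[X]).restrictScalars R
  have h3 := H.map_mem ψ h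
  rw [D.uu_nat] at h3
  have h4 : ψ (C k * X + X) = X := by
    change Polynomial.aeval (C (1 - k) * X : B[X]) (C k * X + X) = X
    rw [map_add, map_mul, Polynomial.aeval_X, Polynomial.aeval_C]
    change C k * (C (1 - k) * X) + C (1 - k) * X = X
    rw [← mul_assoc, ← C_mul, ← add_mul, ← C_add]
    have : k * (1 - k) + (1 - k) = 1 := by linear_combination -hk2
    rw [this, C_1, one_mul]
  rwa [h4] at h3

section thick

variable (K : Type u) [CommRing K]

/-- `K[x]/(x^{m+1})` -/
abbrev Th (m : ℕ) : Type u := K[X] ⧸ Ideal.span {(X : K[X]) ^ (m + 1)}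

/-- the class of `x` -/
noncomputable abbrev xt (m : ℕ) : Th K m := Ideal.Quotient.mk _ X

lemma xt_pow (m : ℕ) : xt K m ^ (m + 1) = 0 := by
  rw [← map_pow]
  exact Ideal.Quotient.eq_zero_iff_mem.2 (Ideal.mem_span_singleton_self _)

variable {K}

/-- homomorphisms out of `K[x]/(x^{m+1})` -/
noncomputable def thLift (m : ℕ) {F : Type u} [CommRing F] [Algebra K F] (z : F) (hz : z ^ (m + 1) = 0) : Th K m →ₐ[K] F :=
  Ideal.Quotient.liftₐ _ (Polynomial.aeval z) (by
    have h1 : Ideal.span {(X : K[X]) ^ (m + 1)} ≤ RingHom.ker (Polynomial.aeval z : K[X] →ₐ[K] F) := by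
      rw [Ideal.span_le, Set.singleton_subset_iff]
      change Polynomial.aeval z (X ^ (m + 1) : K[X]) = 0
      rw [map_pow, Polynomial.aeval_X, hz]
    exact fun a ha => h1 ha)

lemma thLift_xt (m : ℕ) {F : Type u} [CommRing F] [Algebra K F] (z : F) (hz : z ^ (m + 1) = 0) :
    thLift m z hz (xt K m) = z := by
  change Polynomial.aeval z (X : K[X]) = z
  rw [Polynomial.aeval_X]

/-- the elements of the last ideal -/
lemma exists_of_mem_last (m : ℕ) (y : Th K (m + 1)) (hy : y ∈ Ideal.span {xt K (m + 1) ^ (m + 1)}) :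
    ∃ k : K, y = algebraMap K _ k * xt K (m + 1) ^ (m + 1) := by
  rw [Ideal.mem_span_singleton'] at hy
  obtain ⟨e, rfl⟩ := hy
  obtain ⟨p, rfl⟩ := Ideal.Quotient.mk_surjective e
  refine ⟨p.coeff 0, ?_⟩
  have h1 : p = p.divX * X + C (p.coeff 0) := (Polynomial.divX_mul_X_add p).symm
  have h2 : (Ideal.Quotient.mk (Ideal.span {(X : K[X]) ^ (m + 1 + 1)})) p =
      (Ideal.Quotient.mk _ p.divX) * xt K (m + 1) + algebraMap K _ (p.coeff 0) := by
    conv_lhs => rw [h1]
    rw [map_add, map_mul]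
    rfl
  rw [h2, add_mul, mul_assoc, ← pow_succ', xt_pow, mul_zero, zero_add]

end thick

include hT in
/-- The inductive step, for an abstract truncated polynomial ring. -/
theorem thick_step {K : Type u} [CommRing K] [Algebra R K] [Algebra K E] [IsScalarTower R K E] (hD : D.Good) (b : D.idx)
    (hred : Red D b) (x : E) (n : ℕ) (hn : n ≠ 1) (J : Ideal E) (hJ2 : J * J = ⊥)
    (hJ : ∀ y ∈ J, ∃ k : K, y = algebraMap K E k * x ^ n)
    (σ' : E →ₐ[K] MonoidAlgebra E (Multiplicative D.M))
    (hσ : σ' x = MonoidAlgebra.single (Multiplicative.ofAdd (D.root b))⁻¹ x)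
    (h0 : D.uu b (E ⧸ J) (Ideal.Quotient.mk J x) ∈ H.mem (E ⧸ J)) : D.uu b E x ∈ H.mem E := by
  classical
  have hz : ∀ n : ℕ, (MonoidAlgebra.single (Multiplicative.ofAdd (D.root b))⁻¹ x) ^ n =
      MonoidAlgebra.single ((Multiplicative.ofAdd (D.root b))⁻¹ ^ n) (x ^ n) := fun n => by
    rw [MonoidAlgebra.single_pow]
  have hσy : ∀ k : K, σ' (algebraMap K _ k * x ^ n) =
      MonoidAlgebra.single ((Multiplicative.ofAdd (D.root b))⁻¹ ^ n) (algebraMap K _ k * x ^ n) := by
    intro k
    rw [map_mul, map_pow, hσ, hz, AlgHom.commutes, Algebra.algebraMap_eq_smul_one, smul_mul_assoc, one_mul,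
      MonoidAlgebra.smul_single, Algebra.smul_def]
  have hzero : ∀ (a : D.idx), ∀ y ∈ J, coeffOne E (Multiplicative D.M)
      (MonoidAlgebra.single (Multiplicative.ofAdd (D.root a)) 1 * σ' y) = 0 := by
    intro a y hy
    obtain ⟨k, rfl⟩ := hJ y hy
    rw [hσy, MonoidAlgebra.single_mul_single, coeffOne_single, if_neg]
    rw [inv_pow, mul_inv_eq_one]
    intro h
    rw [← ofAdd_nsmul] at h
    exact hn (hred a n (Multiplicative.ofAdd.injective h))
  obtain ⟨y, hy, h⟩ := avg_mem_single D H hT hD J hJ2 (σ'.restrictScalars R) (by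
      intro y hy
      obtain ⟨k, rfl⟩ := hJ y hy
      change σ' _ ∈ _
      rw [hσy]
      exact single_mem_ext J _ hy) b x
    (by
      change _ * σ' _ = _
      rw [hσ, MonoidAlgebra.single_mul_single, mul_inv_cancel, one_mul]
      rfl)
    h0 (fun a _ y hy => hzero a y hy)
  have h6 := hzero b y hy
  change D.uu b E (coeffOne E (Multiplicative D.M)
      (MonoidAlgebra.single (Multiplicative.ofAdd (D.root b)) 1 * σ' y) + x) ∈ H.mem E at h
  rwa [h6, zero_add] at h

end Groth.Agent.RedSub.H641.RootLift
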