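import Groth.Prelude.Def_RedSub
import Groth.Agent.Sga3C.CWFam

/-!
# Transporters and strict transporters of subgroups as closed subschemes

For a monomorphism of group schemes `i' : H' ⟶ G` (locally of finite presentation over the base, no closedness)
and a homomorphism `q : Q ⟶ G` from a smooth group with connected fibres, the condition `g q(-) g⁻¹ ∈ H'` on points
`g` of `G` is represented by a closed subscheme of finite presentation of `G`; same for the strict transporter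
`RedSub.IsStrictTransporter`.
-/

set_option autoImplicit false
universe u
open CategoryTheory Limits MonoidalCategory CartesianMonoidalCategory MonObj GrpObj AlgebraicGeometry

namespace Groth.Agent.RedSub.H641.StrictTr

variable {S : Scheme.{u}} {G H H' Q : Over S} [GrpObj G] [GrpObj H] [GrpObj H'] [GrpObj Q]

/-- Geometric irreducibility from connected fibres. -/
theorem geomIrr [Smooth H.hom] [QuasiCompact H.hom] [QuasiSeparated H.hom] (h : RedSub.HasConnectedFibres H) :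
    GeometricallyIrreducible H.hom := by
  have : GrpObj (Over.mk H.hom) := inferInstanceAs (GrpObj H)
  exact Groth.Agent.Sga3C.GrpIrr.geometricallyIrreducible_of_connected_fibres H.hom h

/-- `{g : g q g⁻¹ ⊆ H'}` is a closed subscheme of `G`, of finite presentation. -/
theorem exists_transp [LocallyOfFiniteType G.hom] [Smooth Q.hom] [GeometricallyIrreducible Q.hom]
    [LocallyOfFinitePresentation H'.hom] (q : Q ⟶ G) [IsMonHom q] (i' : H' ⟶ G) [IsMonHom i'] [Mono i'] :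
    ∃ (E : Over S) (e : E ⟶ G), IsClosedImmersion e.left ∧ LocallyOfFinitePresentation e.left ∧
      ∀ (T : Over S) (g : T ⟶ G), (∃ z : T ⟶ E, z ≫ e = g) ↔
        ∀ (T' : Over S) (t : T' ⟶ T) (h : T' ⟶ Q), ∃ h' : T' ⟶ H', (t ≫ g) * (h ≫ q) * (t ≫ g)⁻¹ = h' ≫ i' := by
  let c1 : G ⊗ Q ⟶ G := fst G Q * (snd G Q ≫ q) * (fst G Q)⁻¹
  have hc1 : ∀ {U : Over S} (t : U ⟶ G) (a : U ⟶ Q), lift t a ≫ c1 = t * (a ≫ q) * t⁻¹ := by
    intro U t a
    simp only [c1, comp_mul, GrpObj.comp_inv, lift_fst, lift_snd_assoc]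
  have hw1 : ∀ {T : Over S} (g : T ⟶ G), (g ▷ Q) ≫ c1 =
      (fst T Q ≫ g) * (snd T Q ≫ q) * (fst T Q ≫ g)⁻¹ := by
    intro T g
    simp only [c1, comp_mul, GrpObj.comp_inv, whiskerRight_fst, whiskerRight_snd_assoc]
  have hm1 : Groth.Agent.Sga3C.CWFam.IsMul c1 := by
    intro U t a b
    rw [hc1, hc1, hc1, mul_comp]
    group
  obtain ⟨E, e, he1, he2, he⟩ := Groth.Agent.Sga3C.CWFam.exists_closed i' c1 hm1
  refine ⟨E, e, he1, he2, ?_⟩
  intro T g
  rw [he]
  constructor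
  · rintro ⟨a, ha⟩ T' t h
    refine ⟨lift t h ≫ a, ?_⟩
    rw [Category.assoc, ha, lift_whiskerRight_assoc, hc1]
  · intro h
    obtain ⟨h1, hh1⟩ := h (T ⊗ Q) (fst T Q) (snd T Q)
    exact ⟨h1, by rw [← hh1, hw1]⟩

/-- The same for inverses: `{g : g⁻¹ q g ⊆ H'}`. -/
theorem exists_transp_inv [LocallyOfFiniteType G.hom] [Smooth Q.hom] [GeometricallyIrreducible Q.hom]
    [LocallyOfFinitePresentation H'.hom] (q : Q ⟶ G) [IsMonHom q] (i' : H' ⟶ G) [IsMonHom i'] [Mono i'] :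
    ∃ (E : Over S) (e : E ⟶ G), IsClosedImmersion e.left ∧ LocallyOfFinitePresentation e.left ∧
      ∀ (T : Over S) (g : T ⟶ G), (∃ z : T ⟶ E, z ≫ e = g) ↔
        ∀ (T' : Over S) (t : T' ⟶ T) (h : T' ⟶ Q), ∃ h' : T' ⟶ H', (t ≫ g)⁻¹ * (h ≫ q) * (t ≫ g) = h' ≫ i' := by
  let c1 : G ⊗ Q ⟶ G := (fst G Q)⁻¹ * (snd G Q ≫ q) * (fst G Q)
  have hc1 : ∀ {U : Over S} (t : U ⟶ G) (a : U ⟶ Q), lift t a ≫ c1 = t⁻¹ * (a ≫ q) * t := by
    intro U t a
    simp only [c1, comp_mul, GrpObj.comp_inv, lift_fst, lift_snd_assoc]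
  have hw1 : ∀ {T : Over S} (g : T ⟶ G), (g ▷ Q) ≫ c1 =
      (fst T Q ≫ g)⁻¹ * (snd T Q ≫ q) * (fst T Q ≫ g) := by
    intro T g
    simp only [c1, comp_mul, GrpObj.comp_inv, whiskerRight_fst, whiskerRight_snd_assoc]
  have hm1 : Groth.Agent.Sga3C.CWFam.IsMul c1 := by
    intro U t a b
    rw [hc1, hc1, hc1, mul_comp]
    group
  obtain ⟨E, e, he1, he2, he⟩ := Groth.Agent.Sga3C.CWFam.exists_closed i' c1 hm1
  refine ⟨E, e, he1, he2, ?_⟩
  intro T g
  rw [he]
  constructor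
  · rintro ⟨a, ha⟩ T' t h
    refine ⟨lift t h ≫ a, ?_⟩
    rw [Category.assoc, ha, lift_whiskerRight_assoc, hc1]
  · intro h
    obtain ⟨h1, hh1⟩ := h (T ⊗ Q) (fst T Q) (snd T Q)
    exact ⟨h1, by rw [← hh1, hw1]⟩

/-- The strict transporter is a closed subscheme of finite presentation. -/
theorem exists_strictTransporter [LocallyOfFiniteType G.hom]
    [Smooth H.hom] [GeometricallyIrreducible H.hom] [Smooth H'.hom] [GeometricallyIrreducible H'.hom]
    (i : H ⟶ G) [IsMonHom i] [Mono i] (i' : H' ⟶ G) [IsMonHom i'] [Mono i'] :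
    ∃ (C : Over S) (c : C ⟶ G), _root_.RedSub.IsStrictTransporter i i' c ∧ IsClosedImmersion c.left ∧
      LocallyOfFinitePresentation c.left := by
  have hH : LocallyOfFinitePresentation H.hom := inferInstance
  have hH' : LocallyOfFinitePresentation H'.hom := inferInstance
  obtain ⟨E₁, e₁, h₁, h₁', he₁⟩ := exists_transp i i'
  obtain ⟨E₂, e₂, h₂, h₂', he₂⟩ := exists_transp_inv i' i
  have hpb : IsPullback (pullback.fst e₁ e₂).left (pullback.snd e₁ e₂).left e₁.left e₂.left :=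
    Groth.Agent.Sga3C.CWGroup.isPullback_left (IsPullback.of_hasPullback e₁ e₂)
  have hm₁ : Mono e₁ := Over.mono_of_mono_left e₁
  have hm₂ : Mono e₂ := Over.mono_of_mono_left e₂
  have k₁ : IsClosedImmersion (pullback.fst e₁ e₂).left :=
    MorphismProperty.of_isPullback (P := @IsClosedImmersion) hpb.flip h₂
  have k₂ : LocallyOfFinitePresentation (pullback.fst e₁ e₂).left :=
    MorphismProperty.of_isPullback (P := @LocallyOfFinitePresentation) hpb.flip h₂'
  refine ⟨pullback e₁ e₂, pullback.fst e₁ e₂ ≫ e₁, ⟨inferInstance, ?_⟩, ?_, ?_⟩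
  · intro X g
    constructor
    · rintro ⟨z, hz⟩ X' x
      have a₁ := (he₁ X g).1 ⟨z ≫ pullback.fst e₁ e₂, by rw [Category.assoc, hz]⟩
      have a₂ := (he₂ X g).1 ⟨z ≫ pullback.snd e₁ e₂, by rw [Category.assoc, ← pullback.condition, hz]⟩
      exact ⟨fun h => a₁ X' x h, fun h => a₂ X' x h⟩
    · intro h
      obtain ⟨z₁, hz₁⟩ := (he₁ X g).2 (fun X' x t => (h X' x).1 t)
      obtain ⟨z₂, hz₂⟩ := (he₂ X g).2 (fun X' x t => (h X' x).2 t)
      exact ⟨pullback.lift z₁ z₂ (hz₁.trans hz₂.symm), by rw [pullback.lift_fst_assoc, hz₁]⟩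
  · rw [Over.comp_left]; infer_instance
  · rw [Over.comp_left]; infer_instance

end Groth.Agent.RedSub.H641.StrictTr
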