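import Groth.Agent.RedSub.H641.ExtRing
import Groth.Agent.Sga3B.CellN

/-!
# Subgroup functors of the points of an affine group behaving like smooth immersed subgroups

`SubGr R A`: a subgroup of `Pt R A B` for every `R`-algebra `B`, functorial, with infinitesimal lifting along square-zero
quotients, and such that points congruent to `1` modulo a square-zero ideal descend to subrings.

For a datum `D` with `D.Good` whose torus is contained in `H : SubGr R A`:
* `uu_mem_of_cell_mem` : if a product of root elements with coordinates in a square-zero ideal lies in `H`, so does every factor;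
* `uu_eps_mem` : over a local ring, if moreover a factor is not `1`, then `u_b(ε)` over `K[ε]` lies in `H`;
* `exists_cell_of_mem` : lifting of the cell coordinates of points of `H`.
-/

set_option autoImplicit false
universe u

namespace Groth.Agent.RedSub.H641.SubPts

open Groth.Agent.Sga3B.Cell Groth.Agent.Sga3B.InfConj Groth.Agent.RedSub.H641.ExtRing

/-- a subgroup functor with the infinitesimal properties of a smooth immersed subgroup -/
structure SubGr (R A : Type u) [CommRing R] [CommRing A] [Algebra R A] [PtGrp R A] where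
  /-- the points -/
  mem : ∀ (B : Type u) [CommRing B] [Algebra R B], Subgroup (Pt R A B)
  map_mem : ∀ {B C : Type u} [CommRing B] [Algebra R B] [CommRing C] [Algebra R C] (φ : B →ₐ[R] C)
    {g : Pt R A B}, g ∈ mem B → Pt.map φ g ∈ mem C
  sub_mem : ∀ {B C : Type u} [CommRing B] [Algebra R B] [CommRing C] [Algebra R C] (φ : B →ₐ[R] C),
    Function.Injective φ → ∀ (J : Ideal C), J * J = ⊥ →
      (∀ (r : R) (c : C), c - algebraMap R C r ∈ J → ∃ b, φ b = c) → ∀ g : Pt R A B,
        Pt.map (Ideal.Quotient.mkₐ R J) (Pt.map φ g) = 1 → Pt.map φ g ∈ mem C → g ∈ mem B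
  exists_lift : ∀ {B : Type u} [CommRing B] [Algebra R B] (J : Ideal B), J * J = ⊥ → ∀ g : Pt R A (B ⧸ J),
    g ∈ mem (B ⧸ J) → ∃ g' ∈ mem B, Pt.map (Ideal.Quotient.mkₐ R J) g' = g

variable {R A : Type u} [CommRing R] [CommRing A] [Algebra R A] [PtGrp R A] (D : Datum R A) (H : SubGr R A)
  (hT : ∀ (B : Type u) [CommRing B] [Algebra R B] (t : TPt D.M B), D.i B t ∈ H.mem B)

section univ

variable {B : Type u} [CommRing B] [Algebra R B]

/-- the universal torus point over `B[M]` -/
noncomputable def sU (B : Type u) [CommRing B] (M : Type) [AddCommGroup M] : TPt M (MonoidAlgebra B (Multiplicative M)) :=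
  MonoidHom.toHomUnits (MonoidAlgebra.of B (Multiplicative M))

lemma ch_sU (M : Type) [AddCommGroup M] (m : M) :
    TPt.ch m (sU B M) = MonoidAlgebra.single (Multiplicative.ofAdd m) 1 := rfl

variable {D}

lemma root_mul_ne (a : D.idx) : (Multiplicative.ofAdd (D.root a)) ≠ 1 := by
  intro h
  exact D.root_ne a h

lemma single_mem_ext {Γ : Type} [CommGroup Γ] (J : Ideal B) (γ : Γ) {y : B} (hy : y ∈ J) :
    MonoidAlgebra.single γ y ∈ extIdeal Γ J := by
  have e : (MonoidAlgebra.single γ y : MonoidAlgebra B Γ) =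
      algebraMap B (MonoidAlgebra B Γ) y * MonoidAlgebra.single γ 1 := by
    rw [Algebra.algebraMap_eq_smul_one, smul_mul_assoc, one_mul]
    simp [MonoidAlgebra.smul_single]
  rw [e]
  exact Ideal.mul_mem_right _ _ (Ideal.mem_map_of_mem _ hy)

/-- the element `y γ` of `B + J[Γ]` -/
noncomputable def sg {Γ : Type} [CommGroup Γ] (J : Ideal B) (γ : Γ) (y : B) (hy : y ∈ J) :
    avgSub (C := B) (extIdeal Γ J) :=
  ⟨MonoidAlgebra.single γ y, 0, by rw [map_zero, sub_zero]; exact single_mem_ext J γ hy⟩

variable (D) in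
include hT in
/-- the translate by the universal torus point of a product of root elements with coordinates in `J` -/
theorem cell_mem_ext (J : Ideal B) (hJ : J * J = ⊥) (L : List D.idx) (x : D.idx → B) (hx : ∀ a, x a ∈ J)
    (h : D.cell L x 1 ∈ H.mem B) :
    D.cell L (fun a => sg J (Multiplicative.ofAdd (D.root a)) (x a) (hx a)) 1 ∈
      H.mem (avgSub (C := B) (extIdeal (Multiplicative D.M) J)) := by
  let Γ := Multiplicative D.M
  let E := MonoidAlgebra B Γ
  let φ : avgSub (C := B) (extIdeal Γ J) →ₐ[R] E := (avgSub (C := B) (extIdeal Γ J)).val.restrictScalars R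
  have hφ : ∀ z, φ z = z.1 := fun z => rfl
  have hg : Pt.map φ (D.cell L (fun a => sg J (Multiplicative.ofAdd (D.root a)) (x a) (hx a)) 1) =
      D.i E (sU B D.M) * Pt.map (IsScalarTower.toAlgHom R B E) (D.cell L x 1) * (D.i E (sU B D.M))⁻¹ := by
    rw [D.cell_nat, D.cell_nat, map_one, map_one, D.conj_cell]
    congr 1
    funext a
    rw [ch_sU, hφ]
    change MonoidAlgebra.single (Multiplicative.ofAdd (D.root a)) (x a) =
      MonoidAlgebra.single (Multiplicative.ofAdd (D.root a)) 1 * algebraMap B E (x a)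
    rw [Algebra.algebraMap_eq_smul_one, mul_smul_comm, mul_one]
    simp [MonoidAlgebra.smul_single]
  refine H.sub_mem φ Subtype.val_injective (extIdeal Γ J) (extIdeal_mul B Γ J hJ) ?_ _ ?_ ?_
  · intro r c hc
    refine ⟨⟨c, algebraMap R B r, ?_⟩, rfl⟩
    rw [← IsScalarTower.algebraMap_apply R B E]
    exact hc
  · rw [D.cell_nat, D.cell_nat, map_one, map_one]
    have e : (fun a => (Ideal.Quotient.mkₐ R (extIdeal Γ J))
        (φ (sg J (Multiplicative.ofAdd (D.root a)) (x a) (hx a)))) = fun _ => 0 := by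
      funext a
      exact Ideal.Quotient.eq_zero_iff_mem.2 (single_mem_ext J _ (hx a))
    rw [e, D.cell_zero, map_one]
  · rw [hg]
    exact (H.mem E).mul_mem ((H.mem E).mul_mem (hT _ _) (H.map_mem _ h)) ((H.mem E).inv_mem (hT _ _))

lemma cell_single {L : List D.idx} (hL : L.Nodup) {b : D.idx} (hb : b ∈ L) (x : D.idx → B)
    (hx : ∀ a, a ≠ b → x a = 0) : D.cell L x 1 = D.uu b B (x b) := by
  unfold Datum.cell
  rw [map_one, mul_one]
  induction L with
  | nil => simp at hb
  | cons a L ih =>
    rw [List.map_cons, List.prod_cons]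
    rw [List.nodup_cons] at hL
    by_cases h : a = b
    · subst h
      have h0 : (L.map (fun a => D.uu a B (x a))).prod = 1 := by
        apply List.prod_eq_one
        intro y hy
        obtain ⟨c, hc, rfl⟩ := List.mem_map.mp hy
        have hca : c ≠ a := fun h => hL.1 (h ▸ hc)
        rw [hx c hca, D.uu_zero]
      rw [h0, mul_one]
    · rw [hx a h, D.uu_zero, one_mul]
      exact ih hL.2 (by
        rcases List.mem_cons.1 hb with h' | h'
        · exact absurd h'.symm h
        · exact h')

variable (D) in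
include hT in
/-- every factor of a product of root elements of `H` with coordinates in a square-zero ideal lies in `H` -/
theorem uu_mem_of_cell_mem (J : Ideal B) (hJ : J * J = ⊥) {L : List D.idx} (hL : L.Nodup) (x : D.idx → B)
    (hx : ∀ a, x a ∈ J) (h : D.cell L x 1 ∈ H.mem B) {b : D.idx} (hb : b ∈ L) : D.uu b B (x b) ∈ H.mem B := by
  classical
  have h1 := H.map_mem ((exG (Multiplicative.ofAdd (D.root b)) (root_mul_ne b) J hJ).restrictScalars R)
    (cell_mem_ext D H hT J hJ L x hx h)
  rw [D.cell_nat, map_one] at h1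
  have hval : ∀ a, ((exG (Multiplicative.ofAdd (D.root b)) (root_mul_ne b) J hJ).restrictScalars R)
      (sg J (Multiplicative.ofAdd (D.root a)) (x a) (hx a)) = if a = b then x b else 0 := by
    intro a
    change coefAt 1 (MonoidAlgebra.single (Multiplicative.ofAdd (D.root a)) (x a)) +
      coefAt (Multiplicative.ofAdd (D.root b)) (MonoidAlgebra.single (Multiplicative.ofAdd (D.root a)) (x a)) = _
    rw [coefAt_single, coefAt_single, if_neg (root_mul_ne a), zero_add]
    by_cases hab : a = b
    · subst hab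
      rw [if_pos rfl, if_pos rfl]
    · rw [if_neg hab, if_neg]
      intro h
      exact hab (D.root_inj (Multiplicative.ofAdd.injective h))
  rw [cell_single hL hb _ (fun a ha => by rw [hval, if_neg ha]), hval, if_pos rfl] at h1
  exact h1

variable (D) in
include hT in
/-- a non-trivial root element with coordinate of square zero in `H` over a local ring gives `u_b(ε) ∈ H(K[ε])` -/
theorem uu_eps_mem [IsLocalRing B] (b : D.idx) (y : B) (hy : y ≠ 0) (hy2 : y * y = 0) (h : D.uu b B y ∈ H.mem B) :
    D.uu b (DualNumber (IsLocalRing.ResidueField B)) DualNumber.eps ∈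
      H.mem (DualNumber (IsLocalRing.ResidueField B)) := by
  classical
  have hJ : Ideal.span {y} * Ideal.span {y} = ⊥ := by
    rw [Ideal.span_singleton_mul_span_singleton, hy2]
    simp
  let x : D.idx → B := fun a => if a = b then y else 0
  have hx : ∀ a, x a ∈ Ideal.span {y} := by
    intro a
    simp only [x]
    split_ifs
    · exact Ideal.mem_span_singleton_self y
    · exact Submodule.zero_mem _
  have hb : x b = y := if_pos rfl
  have hc : D.cell [b] x 1 = D.uu b B y := by
    rw [cell_single (List.nodup_singleton b) (List.mem_singleton_self b) x (fun a ha => if_neg ha), hb]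
  have h1 := cell_mem_ext D H hT (Ideal.span {y}) hJ [b] x hx (by rw [hc]; exact h)
  obtain ⟨φ, hφ⟩ := exists_dual (Multiplicative.ofAdd (D.root b)) (root_mul_ne b) y hy hy2
  have h2 := H.map_mem (φ.restrictScalars R) h1
  rw [D.cell_nat, map_one] at h2
  have hval : (φ.restrictScalars R) (sg (Ideal.span {y}) (Multiplicative.ofAdd (D.root b)) (x b) (hx b)) =
      DualNumber.eps := by
    apply hφ
    change MonoidAlgebra.single _ (x b) = _
    rw [hb]
  have e : D.cell [b] (fun a => (φ.restrictScalars R) (sg (Ideal.span {y}) (Multiplicative.ofAdd (D.root a)) (x a) (hx a))) 1 =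
      D.uu b (DualNumber (IsLocalRing.ResidueField B)) DualNumber.eps := by
    unfold Datum.cell
    rw [List.map_singleton, List.prod_singleton, map_one, mul_one]
    exact congrArg (D.uu b _) hval
  rwa [e] at h2

end univ

section lift

variable {B : Type u} [CommRing B] [Algebra R B]

variable {D}

lemma cell_append (L' L'' : List D.idx) (x : D.idx → B) (t : TPt D.M B) :
    D.cell (L' ++ L'') x t = D.cell L' x 1 * D.cell L'' x t := by
  unfold Datum.cell
  rw [List.map_append, List.prod_append, map_one, mul_one, mul_assoc]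

lemma cell_congr (L : List D.idx) {x x' : D.idx → B} (h : ∀ a ∈ L, x a = x' a) (t : TPt D.M B) :
    D.cell L x t = D.cell L x' t := by
  unfold Datum.cell
  congr 2
  apply List.map_congr_left
  intro a ha
  rw [h a ha]

include hT in
lemma cell_mem (L : List D.idx) (x : D.idx → B) (t : TPt D.M B) (h : ∀ a ∈ L, D.uu a B (x a) ∈ H.mem B) :
    D.cell L x t ∈ H.mem B := by
  unfold Datum.cell
  refine (H.mem B).mul_mem ?_ (hT _ _)
  apply Subgroup.list_prod_mem
  intro y hy
  obtain ⟨a, ha, rfl⟩ := List.mem_map.mp hy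
  exact h a ha

variable (D) in
include hT in
/-- **Lifting of cell coordinates of points of `H`.** `L''` a list of roots with root groups in `H`, `L'` the other
roots, not tangent to `H` at fields. A point `h` of `H` over a local ring which modulo a square-zero ideal is in the cell of
`L''` (near the origin) is in the cell of `L''`. -/
theorem exists_cell_of_mem (hD : D.Good) [IsLocalRing B] (L' L'' : List D.idx) (hnd : (L' ++ L'').Nodup)
    (hcov : ∀ a, a ∈ L' ++ L'')
    (hR'' : ∀ a ∈ L'', ∀ x : B, D.uu a B x ∈ H.mem B)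
    (hR' : ∀ b ∈ L', D.uu b (DualNumber (IsLocalRing.ResidueField B)) DualNumber.eps ∉
      H.mem (DualNumber (IsLocalRing.ResidueField B)))
    (J : Ideal B) (hJ : J * J = ⊥) (h : Pt R A B) (hh : h ∈ H.mem B) (x₀ : D.idx → B ⧸ J) (t₀ : TPt D.M (B ⧸ J))
    (hx₀ : ∀ a ∈ L'', ∀ b : B, Ideal.Quotient.mk J b = x₀ a → b ∈ IsLocalRing.maximalIdeal B)
    (ht₀ : ∀ m : D.M, ∀ b : B, Ideal.Quotient.mk J b = TPt.ch m t₀ → b - 1 ∈ IsLocalRing.maximalIdeal B)
    (hc : Pt.map (Ideal.Quotient.mkₐ R J) h = D.cell L'' x₀ t₀) :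
    ∃ (x : D.idx → B) (t : TPt D.M B), (∀ a ∈ L'', Ideal.Quotient.mk J (x a) = x₀ a) ∧
      TPt.map (Ideal.Quotient.mkₐ R J) t = t₀ ∧ h = D.cell L'' x t := by
  classical
  obtain ⟨δ, hδ, hδ0⟩ := hD (L' ++ L'') hnd hcov
  have hJm : J ≤ IsLocalRing.maximalIdeal B := by
    intro j hj
    rw [IsLocalRing.mem_maximalIdeal, mem_nonunits_iff]
    intro hu
    have h2 : j * j = 0 := by
      have := Ideal.mul_mem_mul hj hj
      rw [hJ] at this
      exact this
    have h3 : j = 0 := by
      obtain ⟨v, rfl⟩ := hu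
      have : (v⁻¹ : Bˣ).1 * (v.1 * v.1) = 0 := by rw [h2, mul_zero]
      rwa [← mul_assoc, Units.inv_mul, one_mul] at this
    rw [h3] at hu
    exact not_isUnit_zero hu
  let K := IsLocalRing.ResidueField B
  -- the reduction `B/J → K`
  let r : (B ⧸ J) →ₐ[R] K := Ideal.Quotient.liftₐ J (IsScalarTower.toAlgHom R B K) (by
    intro j hj
    exact (IsLocalRing.residue_eq_zero_iff j).2 (hJm hj))
  have hr : ∀ b : B, r (Ideal.Quotient.mk J b) = IsLocalRing.residue B b := fun b => rfl
  let x₁ : D.idx → B ⧸ J := fun a => if a ∈ L'' then x₀ a else 0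
  have hL'0 : ∀ a ∈ L', x₁ a = 0 := by
    intro a ha
    refine if_neg fun h => ?_
    exact List.disjoint_of_nodup_append hnd ha h
  have hL''x : ∀ a ∈ L'', x₁ a = x₀ a := fun a ha => if_pos ha
  have hrx : ∀ a, r (x₁ a) = 0 := by
    intro a
    by_cases ha : a ∈ L''
    · rw [hL''x a ha]
      obtain ⟨b, hb⟩ := Ideal.Quotient.mk_surjective (x₀ a)
      rw [← hb, hr]
      exact (IsLocalRing.residue_eq_zero_iff b).2 (hx₀ a ha b hb)
    · change r (if a ∈ L'' then x₀ a else 0) = 0
      rw [if_neg ha, map_zero]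
  have hrt : TPt.map r t₀ = 1 := by
    apply TPt.ext_ch
    intro m
    rw [TPt.ch_map, TPt.ch_one]
    obtain ⟨b, hb⟩ := Ideal.Quotient.mk_surjective (TPt.ch m t₀)
    rw [← hb, hr]
    have h1 := (IsLocalRing.residue_eq_zero_iff (b - 1)).2 (ht₀ m b hb)
    rw [map_sub, map_one, sub_eq_zero] at h1
    exact h1
  have hunit : IsUnit (D.ev x₁ t₀ δ) := by
    obtain ⟨b, hb⟩ := Ideal.Quotient.mk_surjective (D.ev x₁ t₀ δ)
    rw [← hb]
    have h1 : IsLocalRing.residue B b = 1 := by
      rw [← hr, hb]
      have h2 := DFunLike.congr_fun (D.comp_ev r x₁ t₀) δ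
      rw [hrt, show (fun a => r (x₁ a)) = fun _ => 0 from funext hrx] at h2
      have h3 := DFunLike.congr_fun (D.comp_ev (Algebra.ofId R K) (fun _ => (0 : R)) 1) δ
      rw [map_one, show (fun a : D.idx => (Algebra.ofId R K) (0 : R)) = fun _ => 0 from
        funext fun _ => map_zero _] at h3
      have h4 : D.ev (fun _ => (0 : R)) 1 δ = 1 := hδ0
      have h5 : r (D.ev x₁ t₀ δ) = (D.ev (fun _ => (0 : K)) 1) δ := h2
      have h6 : (Algebra.ofId R K) (D.ev (fun _ => (0 : R)) 1 δ) = (D.ev (fun _ => (0 : K)) 1) δ := h3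
      rw [h5, ← h6, h4, map_one]
    have h2 : IsUnit b := by
      by_contra hb'
      have h3 : b ∈ IsLocalRing.maximalIdeal B := (IsLocalRing.mem_maximalIdeal b).2 hb'
      rw [← IsLocalRing.residue_eq_zero_iff, h1] at h3
      exact one_ne_zero h3
    exact h2.map (Ideal.Quotient.mk J)
  have hnil : IsNilpotent (RingHom.ker (Ideal.Quotient.mkₐ R J : B →+* B ⧸ J)) := by
    refine ⟨2, ?_⟩
    have : RingHom.ker (Ideal.Quotient.mkₐ R J : B →+* B ⧸ J) = J := Ideal.mk_ker
    rw [this, pow_two, hJ]
    rfl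
  obtain ⟨x, t, hx, ht, hcell⟩ := Datum.EtOn.exists_lift D hδ (φ := Ideal.Quotient.mkₐ R J)
    Ideal.Quotient.mk_surjective hnil (x₀ := x₁) (t₀ := t₀) hunit (g := h) (by
      rw [hc, cell_append, cell_congr L' (x' := fun _ => 0) (fun a ha => hL'0 a ha) 1, D.cell_zero, map_one, one_mul]
      exact cell_congr L'' hL''x t₀)
  rw [cell_append] at hcell
  have hmem : D.cell L'' x t ∈ H.mem B := cell_mem H hT L'' x t (fun a ha => hR'' a ha _)
  have hmem' : D.cell L' x 1 ∈ H.mem B := by
    have e : D.cell L' x 1 = h * (D.cell L'' x t)⁻¹ := by rw [← hcell]; group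
    rw [e]
    exact (H.mem B).mul_mem hh ((H.mem B).inv_mem hmem)
  have hxJ : ∀ a ∈ L', x a ∈ J := by
    intro a ha
    have h1 := hx a
    rw [hL'0 a ha] at h1
    exact Ideal.Quotient.eq_zero_iff_mem.1 h1
  let x' : D.idx → B := fun a => if a ∈ L' then x a else 0
  have hx' : ∀ a, x' a ∈ J := by
    intro a
    simp only [x']
    split_ifs with h
    · exact hxJ a h
    · exact J.zero_mem
  have hnd' : L'.Nodup := (List.nodup_append.1 hnd).1
  have hcx' : D.cell L' x 1 = D.cell L' x' 1 := cell_congr L' (fun a ha => (if_pos ha).symm) 1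
  have hzero : ∀ b ∈ L', x b = 0 := by
    intro b hb
    by_contra hne
    have hxb : x' b = x b := if_pos hb
    have h1 := uu_mem_of_cell_mem D H hT J hJ hnd' x' hx' (by rw [← hcx']; exact hmem') hb
    rw [hxb] at h1
    refine hR' b hb (uu_eps_mem D H hT b (x b) hne ?_ h1)
    have := Ideal.mul_mem_mul (hxJ b hb) (hxJ b hb)
    rw [hJ] at this
    exact this
  refine ⟨x, t, ?_, ht, ?_⟩
  · intro a ha
    exact (hx a).trans (hL''x a ha)
  · rw [← hcell, cell_congr L' (x' := fun _ => 0) hzero 1, D.cell_zero, map_one, one_mul]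

end lift

end Groth.Agent.RedSub.H641.SubPts
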