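import Groth.Agent.RedSub.H641.StrictTr
import Groth.Agent.Sga3B.MaxTorBc636
import Groth.Agent.Sga3B.RedBc892U
import Groth.Agent.Sga3B.SplitBc264

/-!
# Subgroups of type (R) which contain a maximal torus of `G`: base change

`isTypeR_of_torus`: a smooth quasi-compact immersed subgroup with connected fibres through which some maximal torus of
the reductive group `G` factors is of type (R); `isTypeR_bc_of_torus` : its base changes.
-/

set_option autoImplicit false
universe u
open CategoryTheory Limits MonoidalCategory CartesianMonoidalCategory MonObj GrpObj AlgebraicGeometry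

namespace Groth.Agent.RedSub.H641.TypeRBc

open Groth.Agent.Sga3B

variable {S S' : Scheme.{u}} {G H T : Over S} [GrpObj G] [GrpObj H] [GrpObj T]

omit [GrpObj H] in
/-- Geometrically irreducible morphisms have connected fibres. -/
theorem hasConnectedFibres_of_geomIrr [GeometricallyIrreducible H.hom] : _root_.RedSub.HasConnectedFibres H := by
  intro s
  have h1 : ConnectedSpace ↥(H.hom.fiber s) := inferInstance
  rw [isConnected_iff_connectedSpace]
  exact (H.hom.fiberHomeo s).surjective.connectedSpace (H.hom.fiberHomeo s).continuous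

theorem geomIrr_of_conn [LocallyOfFiniteType H.hom] (h : _root_.RedSub.HasConnectedFibres H) :
    GeometricallyIrreducible H.hom := by
  have : GrpObj (Over.mk H.hom) := inferInstanceAs (GrpObj H)
  exact Groth.Agent.Sga3C.GrpIrr.geometricallyIrreducible_of_connected_fibres H.hom h

theorem hasConnectedFibres_bc (f : S' ⟶ S) [LocallyOfFiniteType H.hom] (h : _root_.RedSub.HasConnectedFibres H) :
    _root_.RedSub.HasConnectedFibres (Red.bc f H) := by
  have := geomIrr_of_conn h
  have : GeometricallyIrreducible (Red.bc f H).hom :=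
    inferInstanceAs (GeometricallyIrreducible (pullback.snd _ _))
  exact hasConnectedFibres_of_geomIrr

/-- The part of the definition of a subgroup of type (R) without the condition on maximal tori. -/
def IsR0 (i : H ⟶ G) : Prop :=
  _root_.RedSub.IsSubgrp i ∧ Smooth H.hom ∧ QuasiCompact H.hom ∧ _root_.RedSub.HasConnectedFibres H

theorem isR0_of_isTypeR {i : H ⟶ G} (h : _root_.RedSub.IsTypeR i) : IsR0 i := ⟨h.1, h.2.1, h.2.2.1, h.2.2.2.1⟩

/-- The condition on geometric fibres holds as soon as a maximal torus of `G` factors through `H`. -/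
theorem isTypeR_of_torus (hG : Red.IsReductive G) {i : H ⟶ G} (hi : _root_.RedSub.IsSubgrp i) (hs : Smooth H.hom)
    (hq : QuasiCompact H.hom) (hc : _root_.RedSub.HasConnectedFibres H) (t : T ⟶ H)
    (hT : Red.IsMaximalTorus (t ≫ i)) : _root_.RedSub.IsTypeR i := by
  refine ⟨hi, hs, hq, hc, fun s => ?_⟩
  have : IsMonHom i := hi.1
  have hi2 : IsImmersion i.left := hi.2
  have : Mono i := Over.mono_of_mono_left i
  have : IsMonHom (t ≫ i) := hT.1
  have : IsMonHom t := by
    apply Pts.isMonHom_of_points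
    intro X x y
    rw [← cancel_mono i, Category.assoc, MonObj.mul_comp x y (t ≫ i), MonObj.mul_comp, Category.assoc, Category.assoc]
  refine ⟨Red.bc (Red.geomPt s) T, inferInstance, (Over.pullback (Red.geomPt s)).map t, inferInstance, ?_⟩
  rw [← Functor.map_comp]
  exact MaxTorBc636.isMaximalTorus_bc (Red.geomPt s) hG hT

/-- Base change of subgroup schemes (immersions). -/
theorem isSubgrp_bc (f : S' ⟶ S) {i : H ⟶ G} (hi : _root_.RedSub.IsSubgrp i) :
    _root_.RedSub.IsSubgrp ((Over.pullback f).map i) := by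
  have : IsMonHom i := hi.1
  refine ⟨inferInstance, ?_⟩
  exact MorphismProperty.of_isPullback (P := @IsImmersion) (SplitBc264.isPullback_map_left f i) hi.2

/-- Composition with an isomorphism of group schemes. -/
theorem isSubgrp_comp_iso {G' : Over S} [GrpObj G'] {i : H ⟶ G} (hi : _root_.RedSub.IsSubgrp i) (e : G ≅ G')
    [IsMonHom e.hom] : _root_.RedSub.IsSubgrp (i ≫ e.hom) := by
  have : IsMonHom i := hi.1
  have h2 : IsImmersion i.left := hi.2
  refine ⟨inferInstance, ?_⟩
  have : IsIso e.hom.left := inferInstanceAs (IsIso ((Over.forget _).map e.hom))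
  rw [Over.comp_left]
  infer_instance

theorem isR0_bc (f : S' ⟶ S) {i : H ⟶ G} (hi : IsR0 i) : IsR0 ((Over.pullback f).map i) := by
  obtain ⟨hi1, hi2, hi3, hi4⟩ := hi
  exact ⟨isSubgrp_bc f hi1, inferInstanceAs (Smooth (pullback.snd _ _)),
    inferInstanceAs (QuasiCompact (pullback.snd _ _)), hasConnectedFibres_bc f hi4⟩

theorem isR0_comp_iso {G' : Over S} [GrpObj G'] {i : H ⟶ G} (hi : IsR0 i) (e : G ≅ G')
    [IsMonHom e.hom] : IsR0 (i ≫ e.hom) :=
  ⟨isSubgrp_comp_iso hi.1 e, hi.2.1, hi.2.2.1, hi.2.2.2⟩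

theorem isTypeR_of_isR0 (hG : Red.IsReductive G) {i : H ⟶ G} (hi : IsR0 i) (t : T ⟶ H)
    (hT : Red.IsMaximalTorus (t ≫ i)) : _root_.RedSub.IsTypeR i :=
  isTypeR_of_torus hG hi.1 hi.2.1 hi.2.2.1 hi.2.2.2 t hT

/-- Base change of a subgroup of type (R) containing a maximal torus of `G`. -/
theorem isTypeR_bc_of_torus (f : S' ⟶ S) (hG : Red.IsReductive G) {i : H ⟶ G} (hi : _root_.RedSub.IsTypeR i) (t : T ⟶ H)
    (hT : Red.IsMaximalTorus (t ≫ i)) : _root_.RedSub.IsTypeR ((Over.pullback f).map i) := by
  obtain ⟨hi1, hi2, hi3, hi4, -⟩ := hi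
  refine isTypeR_of_torus (RedBc892U.isReductive_bc f hG) (isSubgrp_bc f hi1)
    (inferInstanceAs (Smooth (pullback.snd _ _))) (inferInstanceAs (QuasiCompact (pullback.snd _ _)))
    (hasConnectedFibres_bc f hi4) ((Over.pullback f).map t) ?_
  rw [← Functor.map_comp]
  exact MaxTorBc636.isMaximalTorus_bc f hG hT

end Groth.Agent.RedSub.H641.TypeRBc
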