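import Groth.Agent.RedSub.H641.GermAt
import Groth.Agent.RedSub.H641.Assemble
import Groth.Agent.RedSub.H635.Idem
import Groth.Agent.RedSub.H635.Tr2
import Groth.Agent.RedSub.H635.SchNbd
import Groth.Agent.RedSub.H636.ConnFib
import Groth.Agent.Sga3B.SplitRedField415
import Mathlib.LinearAlgebra.SymmetricAlgebra.Basis
import Mathlib.RingTheory.Smooth.Basic
import Mathlib.RingTheory.FinitePresentation

/-!
# Uniqueness of subgroups of type (R) containing a given split maximal torus over a local ring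
-/

set_option autoImplicit false
universe u
open CategoryTheory Limits MonoidalCategory CartesianMonoidalCategory MonObj GrpObj AlgebraicGeometry

namespace Groth.Agent.RedSub.H641.UniqGlue

open Groth.Agent.Sga3B Groth.Agent.Sga3B.Cell Groth.Agent.Sga3B.PinMod
open Groth.Agent.RedSub.H641.SubPts Groth.Agent.RedSub.H641.SchPts Groth.Agent.RedSub.H641.GermAt
open Groth.Agent.Sga3B.DSPts Groth.Agent.Sga3B.GaPts Groth.Agent.RedSub.H635
open Polynomial

variable {R : Type u} [CommRing R] {G H : Over (Spec (CommRingCat.of R))} [GrpObj G] [GrpObj H]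
  (c : Chart G (𝟙 (Spec (CommRingCat.of R)))) (D : Red.SplitRed G) (i : H ⟶ G) [IsMonHom i]

section smooth

attribute [local instance 10] ULift.algebra'

lemma smooth_mv (R : Type u) [CommRing R] : Algebra.Smooth R (MvPolynomial Unit R) where
  formallySmooth := inferInstance
  finitePresentation := inferInstance

lemma smooth_sym (R : Type u) [CommRing R] : Algebra.Smooth R (SymmetricAlgebra R R) :=
  have := smooth_mv R
  Algebra.Smooth.of_equiv (SymmetricAlgebra.equivMvPolynomial (Module.Basis.singleton Unit R)).symm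

/-- `𝔾_a` is smooth. -/
lemma smooth_ga {S : Scheme.{u}} : Smooth (Red.Ga S).hom := by
  have h1 : Smooth Red.GaZ.{u}.hom := by
    change Smooth (Spec.map (CommRingCat.ofHom (algebraMap (ULift.{u} ℤ) (SymmetricAlgebra (ULift.{u} ℤ) (ULift.{u} ℤ)))))
    rw [HasRingHomProperty.Spec_iff (P := @Smooth)]
    exact RingHom.smooth_algebraMap.2 (smooth_sym _)
  exact MorphismProperty.pullback_snd _ _ h1

end smooth

/-- the root datum is reduced -/
lemma hred [Nontrivial R] (a b : (c.datum D).idx) (k : ℕ) (hk : 2 ≤ k) :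
    k • (c.datum D).root a ≠ (c.datum D).root b := by
  intro h
  have : Nonempty (Spec (CommRingCat.of R)) := inferInstanceAs (Nonempty (PrimeSpectrum R))
  have h1 : D.P.IsReduced := SplitReduced415.isReduced D
  have : k.AtLeastTwo := ⟨hk⟩
  have : IsAddTorsionFree D.M := .of_isTorsionFree ℤ D.M
  exact D.P.nsmul_notMem_range_root (n := k) (i := a) ⟨b, h.symm⟩

/-- **A root tangent at the closed point gives a root group of the subgroup.** -/
theorem exists_root_lift [IsLocalRing R] [IsImmersion i.left] [Smooth H.hom] (t : D.T ⟶ H) (ht : t ≫ i = D.i)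
    (a : D.idx) (ha : (c.datum D).uu a (DualNumber (IsLocalRing.ResidueField R)) DualNumber.eps ∈
      memPt c i (DualNumber (IsLocalRing.ResidueField R))) :
    ∃ v : Red.Ga (Spec (CommRingCat.of R)) ⟶ H, v ≫ i = D.u a := by
  have hmono : Mono i := Over.mono_of_mono_left i
  obtain ⟨N, m, hm, -⟩ := SchNbd.exists_nbd c i
  have hT : ∀ {C : Type u} [CommRing C] [Algebra R C] (t : TPt (c.datum D).M C),
      (SchNbd.sub c i).mem ((c.datum D).i C t) := fun {C} _ _ y => i_mem c D i t ht C y
  have hG := c.good D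
  have h0 : ∀ r ∈ N.aI (D := c.datum D) a, algebraMap R (IsLocalRing.ResidueField R) r = 0 :=
    (N.mem_tangent_iff hT a).1 ha
  have h1 : ∀ r ∈ N.aI (D := c.datum D) a, r = 0 := by
    obtain ⟨z, hz, hz'⟩ := N.exists_idem hG hT a
    have hz1 : z ∈ IsLocalRing.maximalIdeal R := (IsLocalRing.residue_eq_zero_iff z).1 (h0 z hz)
    have hz2 : IsUnit (1 - z) := by
      by_contra hu
      have h2 : (1 - z) ∈ IsLocalRing.maximalIdeal R := hu
      have h3 : (1 : R) ∈ IsLocalRing.maximalIdeal R := by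
        have := Ideal.add_mem _ h2 hz1
        rwa [sub_add_cancel] at this
      exact (Ideal.ne_top_iff_one _).1 (IsLocalRing.maximalIdeal.isMaximal R).ne_top h3
    have hz3 : z = 0 := by
      have h4 : (1 - z) * z = 0 := by rw [sub_mul, _root_.one_mul, hz' z hz, sub_self]
      exact (hz2.mul_right_eq_zero).1 h4
    intro r hr
    rw [← hz' r hr, hz3, mul_zero]
  have h2 : ∀ f ∈ N.J 1, Wt.IsW (c.datum D) ((c.datum D).root a) f → Wt.lin (c.datum D) a f = 0 := fun f hf hf' =>
    h1 _ ⟨f, hf, hf', rfl⟩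
  let p : R[X] := Wt.up (c.datum D) a N.g
  have hp0 : IsUnit (aeval (0 : R) p) := by
    rw [← Polynomial.coeff_zero_eq_aeval_zero, Wt.up_coeff_zero]
    exact N.e1_g
  -- the open neighbourhood of the zero section
  let W : Type u := Localization.Away p
  let xW : W := algebraMap R[X] W X
  have hxW : IsUnit (aeval xW p) := by
    have : aeval xW p = algebraMap R[X] W p := by
      change aeval (algebraMap R[X] W X) p = _
      rw [Polynomial.aeval_algebraMap_apply, Polynomial.aeval_X_left_apply]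
    rw [this]
    exact IsLocalization.Away.algebraMap_isUnit p
  obtain ⟨r, hr⟩ := N.mem_uu hG hT a (fun b k hk => hred c D a b k hk) h2 xW hxW
  let q : tB (𝟙 (Spec (CommRingCat.of R))) W ⟶ Red.Ga (Spec (CommRingCat.of R)) := gaPt _ (fnOf _ xW)
  have hq : q ≫ D.u a = r ≫ i := by
    rw [hr]
    exact (c.pts_uu D a xW).symm
  have hqo : IsOpenImmersion q.left := by
    have h5 : q = tMap (𝟙 _) (IsScalarTower.toAlgHom R R[X] W) ≫ gaPt (tB (𝟙 _) R[X]) (fnOf _ (X : R[X])) := by
      rw [tMap_gaPt]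
      rfl
    have h6 := isPullback_ga (𝟙 (Spec (CommRingCat.of R)))
    have h7 : IsIso (gaPt (tB (𝟙 (Spec (CommRingCat.of R))) R[X]) (fnOf _ (X : R[X]))).left :=
      h6.isIso_fst_of_isIso
    have h8 : IsOpenImmersion (tMap (𝟙 (Spec (CommRingCat.of R))) (IsScalarTower.toAlgHom R R[X] W)).left :=
      IsOpenImmersion.of_isLocalization p
    rw [h5, Over.comp_left]
    infer_instance
  -- the zero section
  let e0 : W →ₐ[R] R := IsLocalization.Away.liftAlgHom (R := R[X]) (S := W) (f := (aeval (0 : R) : R[X] →ₐ[R] R)) p hp0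
  have hga : Smooth (Red.Ga (Spec (CommRingCat.of R))).hom := smooth_ga
  obtain ⟨v, hv⟩ := Germ.exists_lift_of_flat_germ (D.u a) i H636.ConnFib.hasConnectedFibres_Ga _ q (by
    intro s
    refine ⟨(tMap (𝟙 (Spec (CommRingCat.of R))) e0).left s, ?_⟩
    have h9 := Over.w (tMap (𝟙 (Spec (CommRingCat.of R))) e0)
    have h10 : (tB (𝟙 (Spec (CommRingCat.of R))) R).hom = 𝟙 _ := by
      change Spec.map (𝟙 _) ≫ 𝟙 _ = 𝟙 _
      rw [Spec.map_id, Category.comp_id]
    rw [h10] at h9
    rw [← Scheme.Hom.comp_apply, h9]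
    rfl) r hq
  exact ⟨v, hv⟩

theorem uniqStmt : Assemble.UniqStmt.{u} := by
  classical
  intro B _ _ I hI G H₁ H₂ _ _ _ D i₁ i₂ hR₁ hR₂ t₁ t₂ ht₁ ht₂ hspec
  have hG := D.reductive
  have hGa : IsAffineHom G.hom := hG.1
  obtain ⟨c⟩ := exists_chart G (𝟙 (Spec (CommRingCat.of B)))
  have a1 : IsMonHom i₁ := hR₁.1.1
  have a2 : IsMonHom i₂ := hR₂.1.1
  have b1 : IsImmersion i₁.left := hR₁.1.2
  have b2 : IsImmersion i₂.left := hR₂.1.2
  have m1 : Mono i₁ := Over.mono_of_mono_left i₁
  have m2 : Mono i₂ := Over.mono_of_mono_left i₂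
  have s1 : Smooth H₁.hom := hR₁.2.1
  have s2 : Smooth H₂.hom := hR₂.2.1
  let K := IsLocalRing.ResidueField B
  have hIm : I ≤ IsLocalRing.maximalIdeal B := by
    intro j hj
    rw [IsLocalRing.mem_maximalIdeal, mem_nonunits_iff]
    intro hu
    have h2 : j * j = 0 := by
      have := Ideal.mul_mem_mul hj hj
      rw [hI] at this
      exact this
    have h3 : j = 0 := (hu.mul_right_eq_zero).1 h2
    rw [h3] at hu
    exact not_isUnit_zero hu
  have htan : ∀ a : (c.datum D).idx, (c.datum D).uu a (DualNumber K) DualNumber.eps ∈ memPt c i₁ (DualNumber K) ↔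
      (c.datum D).uu a (DualNumber K) DualNumber.eps ∈ memPt c i₂ (DualNumber K) := by
    intro a
    refine hspec (tB (𝟙 _) (DualNumber K)) ?_ _
    let φ : (B ⧸ I) →+* DualNumber K := Ideal.Quotient.lift I (algebraMap B (DualNumber K)) (by
      intro j hj
      have h1 : algebraMap B K j = 0 := (IsLocalRing.residue_eq_zero_iff j).2 (hIm hj)
      rw [IsScalarTower.algebraMap_apply B K (DualNumber K), h1, map_zero])
    refine ⟨Spec.map (CommRingCat.ofHom φ), ?_⟩
    change _ = Spec.map (CommRingCat.ofHom (algebraMap B (DualNumber K))) ≫ 𝟙 _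
    rw [Category.comp_id, ← Spec.map_comp, ← CommRingCat.ofHom_comp]
    congr 2
  let P : (c.datum D).idx → Prop := fun a =>
    (c.datum D).uu a (DualNumber K) DualNumber.eps ∈ memPt c i₁ (DualNumber K)
  let L : List (c.datum D).idx := (Finset.univ : Finset (c.datum D).idx).toList
  let L'' := L.filter (fun a => P a)
  let L' := L.filter (fun a => ¬ P a)
  have hL : L.Nodup := Finset.nodup_toList _
  have hnd : (L' ++ L'').Nodup := by
    rw [List.nodup_append]
    refine ⟨hL.filter _, hL.filter _, ?_⟩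
    intro a ha b hb hab
    subst hab
    have h1 := (List.mem_filter.1 ha).2
    have h2 := (List.mem_filter.1 hb).2
    simp only [decide_eq_true_eq] at h1 h2
    exact h1 h2
  have hcov : ∀ a, a ∈ L' ++ L'' := by
    intro a
    rw [List.mem_append]
    have h0 : a ∈ L := Finset.mem_toList.2 (Finset.mem_univ a)
    by_cases h : P a
    · exact Or.inr (List.mem_filter.2 ⟨h0, by simpa using h⟩)
    · exact Or.inl (List.mem_filter.2 ⟨h0, by simpa using h⟩)
  have hP'' : ∀ a ∈ L'', P a := fun a ha => by simpa using (List.mem_filter.1 ha).2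
  have hP' : ∀ a ∈ L', ¬ P a := fun a ha => by simpa using (List.mem_filter.1 ha).2
  have hR''₁ : ∀ a ∈ L'', ∀ (C : Type u) [CommRing C] [Algebra B C] (x : C), (c.datum D).uu a C x ∈ memPt c i₁ C := by
    intro a ha
    obtain ⟨v, hv⟩ := exists_root_lift c D i₁ t₁ ht₁ a (hP'' a ha)
    exact fun C _ _ x => uu_mem c D i₁ a v hv C x
  have hR''₂ : ∀ a ∈ L'', ∀ (C : Type u) [CommRing C] [Algebra B C] (x : C), (c.datum D).uu a C x ∈ memPt c i₂ C := by
    intro a ha
    obtain ⟨v, hv⟩ := exists_root_lift c D i₂ t₂ ht₂ a ((htan a).1 (hP'' a ha))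
    exact fun C _ _ x => uu_mem c D i₂ a v hv C x
  obtain ⟨v, hv⟩ := exists_le c D i₁ hR₁.2.2.2.1 t₁ ht₁ i₂ t₂ ht₂ L' L'' hnd hcov hR''₁ hR''₂ (fun b hb => hP' b hb)
  obtain ⟨w, hw⟩ := exists_le c D i₂ hR₂.2.2.2.1 t₂ ht₂ i₁ t₁ ht₁ L' L'' hnd hcov hR''₂ hR''₁
    (fun b hb h => hP' b hb ((htan b).2 h))
  intro X y
  constructor
  · rintro ⟨a, rfl⟩
    exact ⟨a ≫ v, by rw [Category.assoc, hv]⟩
  · rintro ⟨a, rfl⟩
    exact ⟨a ≫ w, by rw [Category.assoc, hw]⟩

end Groth.Agent.RedSub.H641.UniqGlue
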